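import Groth.Agent.AlgSpRegLib.CartierMul
import Groth.Agent.CurvLib.Divisor
import Mathlib.RingTheory.Localization.Ideal

/-!
# Dividing one effective Cartier ideal by a larger one
-/

set_option autoImplicit false
set_option linter.style.haveILetI false
universe u

open CategoryTheory AlgebraicGeometry TopologicalSpace Opposite
open scoped nonZeroDivisors

noncomputable section

namespace SurfAmpleLib

section Alg

variable {A : Type u} [CommRing A]

/-- The quotient of two ideals. -/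
def quotIdeal (J C : Ideal A) : Ideal A where
  carrier := {r | ∀ a ∈ C, r * a ∈ J}
  add_mem' {r s} hr hs a ha := by rw [add_mul]; exact add_mem (hr a ha) (hs a ha)
  zero_mem' a _ := by rw [zero_mul]; exact zero_mem J
  smul_mem' c r hr a ha := by rw [smul_eq_mul, mul_assoc]; exact Ideal.mul_mem_left J c (hr a ha)

theorem quotIdeal_map {B : Type u} [CommRing B] [Algebra A B] (M : Submonoid A) [IsLocalization M B]
    (J C : Ideal A) (hC : C.FG) :
    (quotIdeal J C).map (algebraMap A B) = quotIdeal (J.map (algebraMap A B)) (C.map (algebraMap A B)) := by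
  classical
  refine le_antisymm (Ideal.map_le_iff_le_comap.2 fun r hr b hb => ?_) fun b hb => ?_
  · obtain ⟨⟨⟨c, hc⟩, s⟩, h⟩ := (IsLocalization.mem_map_algebraMap_iff M B).1 hb
    refine (IsLocalization.mem_map_algebraMap_iff M B).2 ⟨⟨⟨r * c, hr c hc⟩, s⟩, ?_⟩
    rw [map_mul, mul_assoc, h]
  · obtain ⟨⟨x, s⟩, hx⟩ := IsLocalization.surj M b
    obtain ⟨T, hT⟩ := hC
    have hm : ∀ a ∈ T, ∃ m : M, (m : A) * (x * a) ∈ J := fun a ha => by
      have haC : a ∈ C := hT ▸ Ideal.subset_span ha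
      have h1 : algebraMap A B (x * a) ∈ J.map (algebraMap A B) := by
        rw [map_mul, ← hx, mul_right_comm]
        exact Ideal.mul_mem_right _ _ (hb _ (Ideal.mem_map_of_mem _ haC))
      obtain ⟨⟨⟨j, hj⟩, t⟩, h2⟩ := (IsLocalization.mem_map_algebraMap_iff M B).1 h1
      rw [← map_mul] at h2
      obtain ⟨w, hw⟩ := (IsLocalization.eq_iff_exists M B).1 h2
      refine ⟨w * t, ?_⟩
      have : ((w * t : M) : A) * (x * a) = (w : A) * j := by
        rw [← hw]; simp only [Submonoid.coe_mul]; ring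
      rw [this]
      exact Ideal.mul_mem_left _ _ hj
    choose m hm using hm
    let m₀ : M := ∏ a ∈ T.attach, m a.1 a.2
    refine (IsLocalization.mem_map_algebraMap_iff M B).2 ⟨⟨⟨(m₀ : A) * x, fun a ha => ?_⟩, m₀ * s⟩, ?_⟩
    · rw [← hT] at ha
      refine Submodule.span_induction (p := fun a _ => (m₀ : A) * x * a ∈ J) (fun a ha => ?_) (by simp)
        (fun a b _ _ ha hb => by rw [mul_add]; exact add_mem ha hb)
        (fun c a _ ha => by rw [smul_eq_mul, ← mul_assoc, mul_comm ((m₀ : A) * x) c, mul_assoc]; exact Ideal.mul_mem_left J c ha) ha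
      obtain ⟨d, hd⟩ := Finset.dvd_prod_of_mem (fun a : T => m a.1 a.2) (Finset.mem_attach T ⟨a, ha⟩)
      rw [show (m₀ : A) * x * a = (d : A) * ((m a ha : A) * (x * a)) by
        change ((∏ a ∈ T.attach, m a.1 a.2 : M) : A) * x * a = _
        rw [hd]; simp only [Submonoid.coe_mul]; ring]
      exact Ideal.mul_mem_left J _ (hm a ha)
    · simp only [Submonoid.coe_mul, map_mul, ← hx]
      ring

theorem quotIdeal_span {π g : A} (hπ : π ∈ A⁰) :
    quotIdeal (Ideal.span {π * g}) (Ideal.span {π}) = Ideal.span {g} := by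
  ext r
  constructor
  · intro hr
    obtain ⟨s, hs⟩ := Ideal.mem_span_singleton'.1 (hr π (Ideal.mem_span_singleton_self π))
    refine Ideal.mem_span_singleton'.2 ⟨s, ?_⟩
    have h0 : (s * g - r) * π = 0 := by linear_combination hs
    exact sub_eq_zero.1 ((mem_nonZeroDivisors_iff_right.1 hπ) _ h0)
  · intro hr a ha
    obtain ⟨s, rfl⟩ := Ideal.mem_span_singleton'.1 hr
    obtain ⟨t, rfl⟩ := Ideal.mem_span_singleton'.1 ha
    exact Ideal.mem_span_singleton'.2 ⟨s * t, by ring⟩

end Alg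

variable {X : Scheme.{u}} [IsLocallyNoetherian X]

/-- The quotient of two ideal sheaves. -/
def quotData (J C : X.IdealSheafData) : X.IdealSheafData where
  ideal U := quotIdeal (J.ideal U) (C.ideal U)
  map_ideal_basicOpen U f := by
    letI := (X.presheaf.map (homOfLE (X.basicOpen_le f)).op).hom.toAlgebra
    haveI : IsLocalization.Away f Γ(X, X.basicOpen f) := U.2.isLocalization_basicOpen f
    haveI : IsNoetherianRing Γ(X, U.1) := IsLocallyNoetherian.component_noetherian U
    have hfg : (C.ideal U).FG := IsNoetherian.noetherian _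
    rw [← J.map_ideal_basicOpen U f, ← C.map_ideal_basicOpen U f]
    exact quotIdeal_map (B := Γ(X, X.basicOpen f)) (Submonoid.powers f) (J.ideal U) (C.ideal U) hfg

/-- An effective Cartier ideal contained in another one is a multiple of it. -/
theorem exists_eq_mul {J C : X.IdealSheafData} (hJ : BlowUp.IsEffCartierIdeal J) (hC : BlowUp.IsEffCartierIdeal C)
    (hle : J ≤ C) : ∃ J' : X.IdealSheafData, BlowUp.IsEffCartierIdeal J' ∧ C * J' = J := by
  have key : ∀ x : X, ∃ V : X.affineOpens, x ∈ V.1 ∧ ∃ π g : Γ(X, V.1), π ∈ (Γ(X, V.1))⁰ ∧ g ∈ (Γ(X, V.1))⁰ ∧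
      C.ideal V = Ideal.span {π} ∧ J.ideal V = Ideal.span {π * g} := fun x => by
    obtain ⟨U₁, h₁, f₁, hf₁, e₁⟩ := hC x
    obtain ⟨U₂, h₂, f₂, hf₂, e₂⟩ := hJ x
    obtain ⟨g, g', hgg, hx⟩ := exists_basicOpen_le_affine_inter U₁.2 U₂.2 x ⟨h₁, h₂⟩
    obtain ⟨a, ha, ea⟩ := AlgSpRegLib.res_basicOpen hf₁ e₁ g (X.affineBasicOpen g) rfl
    obtain ⟨b, hb, eb⟩ := AlgSpRegLib.res_basicOpen hf₂ e₂ g' (X.affineBasicOpen g) hgg
    obtain ⟨c, hc⟩ := Ideal.mem_span_singleton'.1 (ea ▸ (hle (X.affineBasicOpen g)) (eb ▸ Ideal.mem_span_singleton_self b))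
    refine ⟨X.affineBasicOpen g, hx, a, c, ha, ?_, ea, by rw [eb, ← hc, mul_comm]⟩
    exact (mul_mem_nonZeroDivisors.1 (hc ▸ hb)).1
  refine ⟨quotData J C, fun x => ?_, ?_⟩
  · obtain ⟨V, hx, π, g, hπ, hg, hCV, hJV⟩ := key x
    refine ⟨V, hx, g, hg, ?_⟩
    change quotIdeal (J.ideal V) (C.ideal V) = _
    rw [hCV, hJV, quotIdeal_span hπ]
  · choose V hx π g hπ hg hCV hJV using key
    refine Scheme.IdealSheafData.ext_of_iSup_eq_top (fun x : X => V x)
      (eq_top_iff.mpr fun x _ => Opens.mem_iSup.mpr ⟨x, hx x⟩) fun x => ?_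
    rw [Scheme.IdealSheafData.ideal_mul, Pi.mul_apply]
    change C.ideal (V x) * quotIdeal (J.ideal (V x)) (C.ideal (V x)) = _
    rw [hCV x, hJV x, quotIdeal_span (hπ x), Ideal.span_singleton_mul_span_singleton]

end SurfAmpleLib
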