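import Groth.Agent.SurfNumLib.Config
import Groth.Agent.SurfNumLib.CastSev
import Groth.Agent.SurfNumLib.RRApps
import Groth.Agent.PushLinLib.HH
import Groth.Agent.IntMultLib.Main

/-!
# Sections of modules of nonpositive degree on an integral curve
-/

set_option autoImplicit false
set_option linter.style.haveILetI false
set_option maxHeartbeats 1000000
universe u

open CategoryTheory CategoryTheory.Limits AlgebraicGeometry TopologicalSpace Opposite
open HilbPolyLib DevissLib IntMultLib IntFunLib HodgeIdxLib
open KFlatLib (pb)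

noncomputable section

namespace SurfAmpleLib

variable {k : Type u} [Field k] {X : Scheme.{u}} [X.Over (Spec (CommRingCat.of k))]
  [IsProper (X ↘ Spec (CommRingCat.of k))]

/-- Sections of an invertible module of degree at most zero on an integral curve over an algebraically closed field. -/
theorem h0_bound_curve [IsAlgClosed k] [IsIntegral X] (hX : topologicalKrullDim X = 1) {P : X.Modules}
    (hP : PicF.IsInvertible P) (hd : N k [P] (Coh.structureModule X) ≤ 0) :
    hh k P 0 ≤ 1 ∧ (N k [P] (Coh.structureModule X) < 0 → hh k P 0 = 0) ∧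
      ∀ φ : Coh.structureModule X ⟶ P, φ ≠ 0 → IsIso φ := by
  haveI := CurvLib.isNoetherian k (X := X)
  rw [← euler_sub_eq_N] at hd ⊢
  have hiso : ∀ φ : Coh.structureModule X ⟶ P, φ ≠ 0 → IsIso φ ∧ Curv2.euler k X P = Curv2.euler k X (Coh.structureModule X) := by
    intro φ hφ
    obtain ⟨hc, hdim⟩ := dim_cokernel_le k (n := 0) (by rw [hX]; simp) hP hφ
    have hadd := CurvLib.euler_add_of_isCoh (k := k) (cokSeq_shortExact hP hφ)
      (DevissLib.isCoh_structureModule X) (CurvLib.isCoh_of_isInvertible hP) hc
    change Curv2.euler k X P = Curv2.euler k X (Coh.structureModule X) + Curv2.euler k X (cokernel φ) at hadd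
    haveI : Mono φ := CurvLib.mono_of_ne_zero CurvLib.isInvertible_structureModule hP hφ
    have he : ¬ (CohB1.support (cokernel φ)).Nonempty := fun hne => by
      have hpos := IntMultLib.euler_pos_of_dim_zero (k := k) hc
        (le_antisymm (by simpa using hdim) (by simpa using IntFunLib.nonneg_dim hne))
      omega
    have hz := DevissLib.isZero_of_support_empty (Set.not_nonempty_iff_eq_empty.mp he)
    haveI : Epi φ := Preadditive.epi_of_cancel_zero _ fun g hg => by
      rw [← cokernel.π_desc _ g hg, hz.eq_of_src (cokernel.desc _ g hg) 0, comp_zero]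
    haveI := isIso_of_mono_of_epi φ
    exact ⟨inferInstance, CurvLib.euler_congr (asIso φ).symm⟩
  have key : hh k P 0 ≠ 0 → ∃ φ : Coh.structureModule X ⟶ P, φ ≠ 0 := fun h => by
    haveI := CurvLib.finite_HH (k := k) (CurvLib.isCoh_of_isInvertible hP) 0
    exact CurvLib.exists_hom_ne_zero (L := P) (Module.nontrivial_of_finrank_pos (R := k) (Nat.pos_of_ne_zero h))
  refine ⟨?_, fun hlt => ?_, fun φ hφ => (hiso φ hφ).1⟩
  · by_contra h
    obtain ⟨φ, hφ⟩ := key (by omega)
    haveI := (hiso φ hφ).1
    rw [← hh_congr (k := k) (asIso φ) 0, SurfNumLib.h0_structure k] at h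
    exact h le_rfl
  · by_contra h
    obtain ⟨φ, hφ⟩ := key h
    have := (hiso φ hφ).2
    omega

variable (k) in
include k in
theorem nonempty_quot_push (L : X.Modules) (hL : PicF.IsInvertible L) (J : X.IdealSheafData) :
    Nonempty ((Coh.push J.subschemeι).obj (pb J.subschemeι L) ≅ CohB1.tensorMod L (ClSub.quotMod J)) := by
  haveI := CurvLib.isNoetherian k (X := X)
  have hP : FlatMod.IsFinLocFree L := CurveVBLib.isFinLocFree_of_rank (CurvLib.locFree_of_isInvertible hL)
  let pr := @asIso _ _ _ _ (ProjFormLib.projApp J.subschemeι L (Coh.structureModule J.subscheme))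
    (ProjFormLib.isIso_projApp J.subschemeι hP (Coh.structureModule J.subscheme))
  exact ⟨(Coh.push J.subschemeι).mapIso (swapIso _ _ ≪≫ unitLeft _).symm ≪≫ pr.symm⟩

/-- Sections of an invertible module restricted to an integral curve in terms of the ambient degree. -/
theorem h0_quot_bound [IsAlgClosed k] {L : X.Modules} (hL : PicF.IsInvertible L) (C : X.IdealSheafData)
    [IsIntegral C.subscheme] (hd : topologicalKrullDim (C.support : Set X) = 1)
    (hdeg : N k [L] (ClSub.quotMod C) ≤ 0) :
    hh k (CohB1.tensorMod L (ClSub.quotMod C)) 0 ≤ 1 ∧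
      (N k [L] (ClSub.quotMod C) < 0 → hh k (CohB1.tensorMod L (ClSub.quotMod C)) 0 = 0) := by
  letI : C.subscheme.Over (Spec (CommRingCat.of k)) := ⟨C.subschemeι ≫ (X ↘ Spec (CommRingCat.of k))⟩
  haveI : IsProper (C.subscheme ↘ Spec (CommRingCat.of k)) :=
    inferInstanceAs (IsProper (C.subschemeι ≫ (X ↘ Spec (CommRingCat.of k))))
  haveI := CurvLib.isNoetherian k (X := C.subscheme)
  have hW : topologicalKrullDim C.subscheme = 1 :=
    ((C.subschemeι.isEmbedding.toHomeomorph.trans
      (Homeomorph.setCongr C.range_subschemeι)).isHomeomorph.topologicalKrullDim_eq).trans hd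
  have hPW := AmpleDevLib.isInvertible_pb C.subschemeι hL
  obtain ⟨e⟩ := nonempty_quot_push k L hL C
  haveI : Coh.IsQCoh (pb C.subschemeι L) := (CurvLib.isCoh_of_isInvertible hPW).1
  have hh0 : hh k (CohB1.tensorMod L (ClSub.quotMod C)) 0 = hh k (pb C.subschemeι L) 0 := by
    rw [← hh_congr (k := k) e 0]
    exact ((PushLinLib.euler_push k C.subschemeι rfl _).1 0).symm
  have hN : N k [pb C.subschemeι L] (Coh.structureModule C.subscheme) = N k [L] (ClSub.quotMod C) :=
    N_push (k := k) rfl (l := [L]) (by simpa using hL) (DevissLib.isCoh_structureModule C.subscheme)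
      ((topologicalKrullDim_subspace_le _ _).trans (by rw [hW]; simp))
  obtain ⟨h1, h2, -⟩ := h0_bound_curve (k := k) hW hPW (hN ▸ hdeg)
  rw [hh0, ← hN]
  exact ⟨h1, h2⟩

end SurfAmpleLib
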