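import Groth.Agent.SurfNumLib.IdealMul
import Groth.Agent.AlgSpRegLib.CartierMul
import Groth.Agent.EffCartLib.Basic
import Groth.Agent.IntFunLib.NList
import Groth.Agent.HodgeIdxLib.Index

/-!
# Products of effective Cartier ideals
-/

set_option autoImplicit false
set_option linter.style.haveILetI false
universe u

open CategoryTheory CategoryTheory.Limits AlgebraicGeometry TopologicalSpace Opposite
open HilbPolyLib DevissLib IntMultLib IntFunLib HodgeIdxLib

noncomputable section

namespace SurfAmpleLib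

variable {X : Scheme.{u}}

theorem isEffCartier_one : BlowUp.IsEffCartierIdeal (1 : X.IdealSheafData) :=
  EffCartLib.isEffCartier_top

theorem isEffCartier_finprod {ι : Type*} (s : Finset ι) {J : ι → X.IdealSheafData}
    (hJ : ∀ i ∈ s, BlowUp.IsEffCartierIdeal (J i)) : BlowUp.IsEffCartierIdeal (∏ i ∈ s, J i) :=
  Finset.prod_induction J _ (fun _ _ => AlgSpRegLib.isEffCartier_mul) isEffCartier_one hJ

theorem isEffCartier_pow' {I : X.IdealSheafData} (hI : BlowUp.IsEffCartierIdeal I) (n : ℕ) :
    BlowUp.IsEffCartierIdeal (I ^ n) := by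
  rw [show I ^ n = ∏ _i ∈ Finset.range n, I by rw [Finset.prod_const, Finset.card_range]]
  exact isEffCartier_finprod _ fun _ _ => hI

theorem mem_support_finprod {ι : Type*} (s : Finset ι) (J : ι → X.IdealSheafData) (x : X) :
    x ∈ (∏ i ∈ s, J i).support ↔ ∃ i ∈ s, x ∈ (J i).support := by
  classical
  induction s using Finset.induction with
  | empty =>
    rw [Finset.prod_empty]
    simp only [Finset.notMem_empty, false_and, exists_false, iff_false]
    rw [show (1 : X.IdealSheafData) = ⊤ from rfl, Scheme.IdealSheafData.support_top]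
    exact id
  | insert a s ha ih =>
    rw [Finset.prod_insert ha, Scheme.IdealSheafData.support_mul, SetLike.mem_coe.symm, Closeds.coe_sup, Set.mem_union,
      SetLike.mem_coe, SetLike.mem_coe, ih]
    simp

variable {k : Type u} [Field k] [X.Over (Spec (CommRingCat.of k))] [IsProper (X ↘ Spec (CommRingCat.of k))]

theorem N_mul {I J : X.IdealSheafData} (hI : BlowUp.IsEffCartierIdeal I) (hJ : BlowUp.IsEffCartierIdeal J)
    {l : List X.Modules} (hl : ∀ A ∈ l, PicF.IsInvertible A) {F : X.Modules} (hF : Coh.IsCoh F)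
    (hd : topologicalKrullDim (CohB1.support F) ≤ (l.length + 1 : ℕ)) :
    N k (ClSub.idealMod (I * J) :: l) F = N k (ClSub.idealMod I :: l) F + N k (ClSub.idealMod J :: l) F := by
  rw [← N_congr_head (SurfNumLib.nonempty_idealMod_mul hI hJ).some]
  exact N_tensor hl (IntMultLib.isInvertible_idealMod I hI) (IntMultLib.isInvertible_idealMod J hJ) hF hd

theorem N_one {l : List X.Modules} (hl : ∀ A ∈ l, PicF.IsInvertible A) {F : X.Modules} (hF : Coh.IsCoh F)
    (hd : topologicalKrullDim (CohB1.support F) ≤ (l.length + 1 : ℕ)) :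
    N k (ClSub.idealMod (1 : X.IdealSheafData) :: l) F = 0 := by
  have h := N_mul (k := k) (I := (1 : X.IdealSheafData)) (J := 1) isEffCartier_one isEffCartier_one hl hF hd
  rw [one_mul] at h
  omega

theorem N_finprod {ι : Type*} (s : Finset ι) {J : ι → X.IdealSheafData}
    (hJ : ∀ i ∈ s, BlowUp.IsEffCartierIdeal (J i)) {l : List X.Modules} (hl : ∀ A ∈ l, PicF.IsInvertible A)
    {F : X.Modules} (hF : Coh.IsCoh F) (hd : topologicalKrullDim (CohB1.support F) ≤ (l.length + 1 : ℕ)) :
    N k (ClSub.idealMod (∏ i ∈ s, J i) :: l) F = ∑ i ∈ s, N k (ClSub.idealMod (J i) :: l) F := by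
  classical
  induction s using Finset.induction with
  | empty =>
    rw [Finset.prod_empty, Finset.sum_empty]
    exact N_one hl hF hd
  | insert a s ha ih =>
    rw [Finset.prod_insert ha, Finset.sum_insert ha,
      N_mul (hJ a (Finset.mem_insert_self a s)) (isEffCartier_finprod s fun i hi => hJ i (Finset.mem_insert_of_mem hi))
        hl hF hd, ih fun i hi => hJ i (Finset.mem_insert_of_mem hi)]

theorem N_pow {I : X.IdealSheafData} (hI : BlowUp.IsEffCartierIdeal I) (n : ℕ) {l : List X.Modules}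
    (hl : ∀ A ∈ l, PicF.IsInvertible A) {F : X.Modules} (hF : Coh.IsCoh F)
    (hd : topologicalKrullDim (CohB1.support F) ≤ (l.length + 1 : ℕ)) :
    N k (ClSub.idealMod (I ^ n) :: l) F = (n : ℤ) * N k (ClSub.idealMod I :: l) F := by
  rw [show I ^ n = ∏ _i ∈ Finset.range n, I by rw [Finset.prod_const, Finset.card_range]]
  rw [N_finprod _ (fun _ _ => hI) hl hF hd]
  simp

/-- The ideal of the combination with multiplicities. -/
def comb {ι : Type*} [Fintype ι] (I : ι → X.IdealSheafData) (n : ι → ℕ) : X.IdealSheafData :=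
  ∏ i, I i ^ n i

section Comb

variable {ι : Type*} [Fintype ι] {I : ι → X.IdealSheafData}

omit [X.Over (Spec (CommRingCat.of k))] [IsProper (X ↘ Spec (CommRingCat.of k))] in
theorem isEffCartier_comb (hI : ∀ i, BlowUp.IsEffCartierIdeal (I i)) (n : ι → ℕ) :
    BlowUp.IsEffCartierIdeal (comb I n) :=
  isEffCartier_finprod _ fun i _ => isEffCartier_pow' (hI i) _

omit [X.Over (Spec (CommRingCat.of k))] [IsProper (X ↘ Spec (CommRingCat.of k))] in
theorem mem_support_comb (n : ι → ℕ) (x : X) :
    x ∈ (comb I n).support ↔ ∃ i, n i ≠ 0 ∧ x ∈ (I i).support := by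
  rw [comb, mem_support_finprod]
  refine ⟨fun ⟨i, _, hi⟩ => ⟨i, ?_, ?_⟩, fun ⟨i, hn, hi⟩ => ⟨i, Finset.mem_univ i, ?_⟩⟩
  · intro h0
    rw [h0, pow_zero, show (1 : X.IdealSheafData) = ⊤ from rfl, Scheme.IdealSheafData.support_top] at hi
    exact hi
  · rcases Nat.eq_zero_or_pos (n i) with h0 | h0
    · rw [h0, pow_zero, show (1 : X.IdealSheafData) = ⊤ from rfl, Scheme.IdealSheafData.support_top] at hi
      exact hi.elim
    · rwa [Scheme.IdealSheafData.support_pow _ _ h0.ne'] at hi
  · rwa [Scheme.IdealSheafData.support_pow _ _ hn]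

theorem N_comb (hI : ∀ i, BlowUp.IsEffCartierIdeal (I i)) (n : ι → ℕ) {l : List X.Modules}
    (hl : ∀ A ∈ l, PicF.IsInvertible A) {F : X.Modules} (hF : Coh.IsCoh F)
    (hd : topologicalKrullDim (CohB1.support F) ≤ (l.length + 1 : ℕ)) :
    N k (ClSub.idealMod (comb I n) :: l) F = ∑ i, (n i : ℤ) * N k (ClSub.idealMod (I i) :: l) F := by
  rw [comb, N_finprod _ (fun i _ => isEffCartier_pow' (hI i) _) hl hF hd]
  exact Finset.sum_congr rfl fun i _ => N_pow (hI i) _ hl hF hd

theorem pr_comb [IsIntegral X] (hX : topologicalKrullDim X ≤ ((2 : ℕ) : WithBot ℕ∞))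
    (hI : ∀ i, BlowUp.IsEffCartierIdeal (I i)) (n : ι → ℕ) {T : X.Modules} (hT : PicF.IsInvertible T) :
    pr k (ClSub.idealMod (comb I n)) T = ∑ i, (n i : ℤ) * pr k (ClSub.idealMod (I i)) T :=
  N_comb hI n (l := [T]) (by simpa using hT) (DevissLib.isCoh_structureModule X)
    ((topologicalKrullDim_subspace_le _ _).trans hX)

omit [X.Over (Spec (CommRingCat.of k))] [IsProper (X ↘ Spec (CommRingCat.of k))] in
theorem comb_succ [DecidableEq ι] (n : ι → ℕ) (i : ι) :
    comb I (Function.update n i (n i + 1)) = I i * comb I n := by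
  rw [comb, comb, ← Finset.mul_prod_erase _ _ (Finset.mem_univ i), ← Finset.mul_prod_erase _ (fun j => I j ^ n j) (Finset.mem_univ i),
    Function.update_self, pow_succ', mul_assoc]
  congr 2
  refine Finset.prod_congr rfl fun j hj => ?_
  rw [Function.update_of_ne (Finset.ne_of_mem_erase hj)]

end Comb

end SurfAmpleLib
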