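import Groth.Agent.SurfNumLib.IdealMul
import Groth.Agent.SerreVanLib.Converse
import Groth.Agent.KFlatLib.PullTensor
import Groth.Agent.HilbPolyLib.Twist
import Groth.Agent.HodgeIdxLib.Light
import Mathlib.CategoryTheory.Abelian.DiagramLemmas.KernelCokernelComp

/-!
# The sequence `0 → I ⊗ O/J → O/IJ → O/I → 0`
-/

set_option autoImplicit false
set_option linter.style.haveILetI false
set_option backward.isDefEq.respectTransparency false
set_option maxHeartbeats 1000000
universe u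

open CategoryTheory CategoryTheory.Limits AlgebraicGeometry TopologicalSpace Opposite
open HilbPolyLib DevissLib IntMultLib HodgeIdxLib
open AmpleLib (res shT GenOn)

noncomputable section

namespace SurfAmpleLib

/-- The cokernel sequence of a composition with a monomorphism. -/
theorem exists_cokernel_comp {C : Type*} [Category C] [Abelian C] {A B D : C} (f : A ⟶ B) (g : B ⟶ D) [Mono g] :
    (ShortComplex.mk (cokernel.map f (f ≫ g) (𝟙 _) g (by simp)) (cokernel.map (f ≫ g) g f (𝟙 _) (by simp))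
      (by ext; simp)).ShortExact := by
  let S := kernelCokernelCompSequence.snakeInput f g
  have hex : (ShortComplex.mk (cokernel.map f (f ≫ g) (𝟙 _) g (by simp)) (cokernel.map (f ≫ g) g f (𝟙 _) (by simp))
      (by ext; simp)).Exact := S.L₃_exact
  haveI : Mono (cokernel.map f (f ≫ g) (𝟙 _) g (by simp)) := by
    refine (S.L₂'.exact_iff_mono ?_).1 S.L₂'_exact
    have hz : IsZero (kernel g) := isZero_kernel_of_mono g
    exact hz.eq_zero_of_src _
  haveI : Epi (cokernel.map (f ≫ g) g f (𝟙 _) (by simp)) := by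
    haveI : Epi (cokernel.π (f ≫ g) ≫ cokernel.map (f ≫ g) g f (𝟙 _) (by simp)) := by
      rw [cokernel.π_desc]; infer_instance
    exact epi_of_epi (cokernel.π (f ≫ g)) _
  exact { exact := hex }

variable {X : Scheme.{u}}

/-- Tensoring a map on the left. -/
def tmap (N : X.Modules) {A B : X.Modules} (f : A ⟶ B) : CohB1.tensorMod N A ⟶ CohB1.tensorMod N B :=
  ((DCoh.tensorBi (X := X)).obj N).map f

theorem tmap_shT (N : X.Modules) {A B : X.Modules} (f : A ⟶ B) (V : X.Opens) (a : Γ(N, V)) (b : Γ(A, V)) :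
    (tmap N f).app V (shT a b) = shT a (f.app V b) :=
  KFlatLib.tensorBi_map₂_shTm N f a b

/-- The ideal of a product, as a composition. -/
theorem exists_idealMul_compat {I J : X.IdealSheafData} (hI : BlowUp.IsEffCartierIdeal I)
    (hJ : BlowUp.IsEffCartierIdeal J) :
    ∃ (φ : CohB1.tensorMod (ClSub.idealMod I) (ClSub.idealMod J) ≅ ClSub.idealMod (I * J))
      (u : CohB1.tensorMod (ClSub.idealMod I) (Coh.structureModule X) ⟶ ClSub.idealMod I), IsIso u ∧
      φ.hom ≫ ClSub.idealModι (I * J) =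
        (tmap (ClSub.idealMod I) (ClSub.idealModι J) ≫ u) ≫ ClSub.idealModι I := by
  obtain ⟨u, hu, hu'⟩ := SerreVanLib.exists_unit_iso (ClSub.idealMod I)
  let ι := (W : X.affineOpens) × {p : Γ(ClSub.idealMod I, W.1) × Γ(ClSub.idealMod J, W.1) × Γ(ClSub.idealMod (I * J), W.1) //
    GenOn (ClSub.idealMod I) p.1 ∧ GenOn (ClSub.idealMod J) p.2.1 ∧ GenOn (ClSub.idealMod (I * J)) p.2.2 ∧
      SurfNumLib.val I p.1 * SurfNumLib.val J p.2.1 = SurfNumLib.val (I * J) p.2.2}
  obtain ⟨φ, hφ, hcov⟩ := SurfNumLib.exists_idealMod_mul hI hJ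
  refine ⟨φ, u, hu, ?_⟩
  refine AmpleThLib.hom_ext_gens (fun a : ι => a.1.1) (fun a => shT a.2.1.1 a.2.1.2.1) hcov
    (fun a => AmpleThLib.shT_genOn a.2.2.1 a.2.2.2.1) fun a => ?_
  change SurfNumLib.val (I * J) (φ.hom.app _ (shT a.2.1.1 a.2.1.2.1)) =
    SurfNumLib.val I (u.app _ ((tmap (ClSub.idealMod I) (ClSub.idealModι J)).app _ (shT a.2.1.1 a.2.1.2.1)))
  rw [hφ a, tmap_shT]
  have h1 : u.app a.1.1 (shT a.2.1.1 ((ClSub.idealModι J).app a.1.1 a.2.1.2.1)) =
      SurfNumLib.val J a.2.1.2.1 • a.2.1.1 := hu' a.1.1 a.2.1.1 _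
  rw [h1, SurfNumLib.val_smul]
  exact a.2.2.2.2.2.symm.trans (mul_comm _ _)

/-- `0 → I ⊗ O/J → O/IJ → O/I → 0`. -/
theorem exists_quotSeq {I J : X.IdealSheafData} (hI : BlowUp.IsEffCartierIdeal I)
    (hJ : BlowUp.IsEffCartierIdeal J) :
    ∃ S : ShortComplex X.Modules, S.ShortExact ∧
      Nonempty (S.X₁ ≅ CohB1.tensorMod (ClSub.idealMod I) (ClSub.quotMod J)) ∧
      Nonempty (S.X₂ ≅ ClSub.quotMod (I * J)) ∧ Nonempty (S.X₃ ≅ ClSub.quotMod I) := by
  obtain ⟨φ, u, hu, hc⟩ := exists_idealMul_compat hI hJ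
  haveI := hu
  let m := tmap (ClSub.idealMod I) (ClSub.idealModι J) ≫ u
  haveI : Mono (ClSub.idealModι I) := (CurvLib.idealSeq_shortExact I).mono_f
  have hcok : ∀ K : X.IdealSheafData, Nonempty (cokernel (ClSub.idealModι K) ≅ ClSub.quotMod K) := fun K =>
    ⟨(colimit.isColimit _).coconePointUniqueUpToIso (CurvLib.idealSeq_shortExact K).gIsCokernel⟩
  refine ⟨_, exists_cokernel_comp m (ClSub.idealModι I), ⟨?_⟩, ⟨?_⟩, hcok I⟩
  · have hT := HilbPolyLib.shortExact_tensor (IntMultLib.isInvertible_idealMod I hI) (CurvLib.idealSeq_shortExact J)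
    exact cokernelCompIsIso (tmap (ClSub.idealMod I) (ClSub.idealModι J)) u ≪≫
      (colimit.isColimit _).coconePointUniqueUpToIso hT.gIsCokernel
  · exact cokernelIsoOfEq hc.symm ≪≫ cokernelEpiComp φ.hom (ClSub.idealModι (I * J)) ≪≫ (hcok (I * J)).some

variable {k : Type u} [Field k] [X.Over (Spec (CommRingCat.of k))] [IsProper (X ↘ Spec (CommRingCat.of k))]

/-- Subadditivity of the dimensions of cohomology. -/
theorem hh_le_mid {S : ShortComplex X.Modules} (hS : S.ShortExact) (h₁ : Coh.IsCoh S.X₁) (h₂ : Coh.IsCoh S.X₂)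
    (h₃ : Coh.IsCoh S.X₃) (p : ℕ) : hh k S.X₂ p ≤ hh k S.X₁ p + hh k S.X₃ p := by
  haveI := CurvLib.finite_HH (k := k) h₁ p
  haveI := CurvLib.finite_HH (k := k) h₂ p
  haveI := CurvLib.finite_HH (k := k) h₃ p
  have a1 := LinearMap.finrank_range_add_finrank_ker (CurvLib.hMap (k := k) S.g p)
  rw [← CurvLib.exact₂ (k := k) hS p] at a1
  have c1 := LinearMap.finrank_range_le (CurvLib.hMap (k := k) S.f p)
  have c2 := Submodule.finrank_le (LinearMap.range (CurvLib.hMap (k := k) S.g p))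
  unfold hh
  omega

end SurfAmpleLib
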