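import Groth.Agent.SurfAmpleLib.Projective
import Groth.Agent.SurfNumLib.RR
import Groth.Agent.SurfNumLib.RRApps
import Groth.Agent.ExtTopLib.Top

/-!
# Riemann–Roch and adjunction on smooth proper surfaces
-/

set_option autoImplicit false
set_option linter.style.haveILetI false
set_option backward.isDefEq.respectTransparency false
universe u

open CategoryTheory CategoryTheory.Limits AlgebraicGeometry TopologicalSpace Opposite
open HilbPolyLib DevissLib IntMultLib IntFunLib HodgeIdxLib

noncomputable section

namespace SurfAmpleLib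

variable {k : Type u} [Field k] [IsAlgClosed k] {X : Scheme.{u}} [X.Over (Spec (CommRingCat.of k))]
  [IsProper (X ↘ Spec (CommRingCat.of k))] [IsIntegral X] [Smooth (X ↘ Spec (CommRingCat.of k))]
  (hX : topologicalKrullDim X = ((2 : ℕ) : WithBot ℕ∞))
  {W : X.Modules} (hW : ExtPow.IsExtPow 2 (Omega.sheaf (X ↘ Spec (CommRingCat.of k))) W)

include hX hW

theorem riemann_roch {L : X.Modules} (hL : PicF.IsInvertible L) :
    2 * Curv2.euler k X L = pr k L L - pr k L W + 2 * Curv2.euler k X (Coh.structureModule X) := by
  obtain ⟨n, ι, hι, hιc⟩ := exists_embedding_of_smooth k hX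
  exact SurfNumLib.riemann_roch hX ι hιc hW hL

theorem isInvertible_canonical : PicF.IsInvertible W := by
  haveI := SurfNumLib.smoothRel_of_dim (k := k) hX
  exact SurfNumLib.isInvertible_canonical (k := k) hW

theorem hh_dual {L L' : X.Modules} (hL : PicF.IsInvertible L) (e : CohB1.tensorMod L L' ≅ Coh.structureModule X)
    (p : ℕ) (hp : p ≤ 2) : hh k L p = hh k (CohB1.tensorMod L' W) (2 - p) := by
  haveI := SurfNumLib.smoothRel_of_dim (k := k) hX
  obtain ⟨n, ι, hι, hιc⟩ := exists_embedding_of_smooth k hX
  exact SurfNumLib.hh_dual ι hιc hW hL e p hp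

/-- Adjunction for an effective divisor. -/
theorem adjunction {J : X.IdealSheafData} (hJ : BlowUp.IsEffCartierIdeal J) :
    2 * Curv2.euler k X (ClSub.quotMod J) =
      pr k (ClSub.idealMod J) W - pr k (ClSub.idealMod J) (ClSub.idealMod J) := by
  haveI := CurvLib.isNoetherian k (X := X)
  have hI := IntMultLib.isInvertible_idealMod J hJ
  have h := riemann_roch hX hW hI
  have hadd := CurvLib.euler_add_of_isCoh (k := k) (S := CurvLib.idealSeq J) (CurvLib.idealSeq_shortExact _)
    (CurvLib.isCoh_of_isInvertible hI) (DevissLib.isCoh_structureModule X) (CurvLib.isCoh_quotMod _)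
  change Curv2.euler k X (Coh.structureModule X) =
    Curv2.euler k X (ClSub.idealMod J) + Curv2.euler k X (ClSub.quotMod J) at hadd
  omega

variable (k) in
include k in
omit hW in
theorem isEffCartier_curve' (C : X.IdealSheafData) [IsIntegral C.subscheme]
    (hd : topologicalKrullDim (C.support : Set X) = 1) : BlowUp.IsEffCartierIdeal C :=
  SurfNumLib.isEffCartier_curve k hX (WeilExtLib.isRegular_stalk_smooth (X ↘ Spec (CommRingCat.of k))) C hd

/-- Adjunction for an integral curve. -/
theorem curve_adjunction (C : X.IdealSheafData) [IsIntegral C.subscheme]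
    (hd : topologicalKrullDim (C.support : Set X) = 1) :
    pr k (ClSub.idealMod C) (ClSub.idealMod C) =
      pr k (ClSub.idealMod C) W - 2 + 2 * (hh k (ClSub.quotMod C) 1 : ℤ) := by
  haveI := CurvLib.isNoetherian k (X := X)
  have h := adjunction hX hW (isEffCartier_curve' k hX C hd)
  rw [euler_eq_of_dim_one (CurvLib.isCoh_quotMod _) (by rw [SurfNumLib.support_quotMod_eq, hd, Nat.cast_one]),
    SurfNumLib.h0_quot C] at h
  omega

omit hW hX in
theorem deg_eq {C : X.IdealSheafData} (hC : BlowUp.IsEffCartierIdeal C) {T : X.Modules} (hT : PicF.IsInvertible T) :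
    Curv2.euler k X (CohB1.tensorMod (ClSub.quotMod C) T) - Curv2.euler k X (ClSub.quotMod C) =
      - pr k (ClSub.idealMod C) T := by
  rw [SurfNumLib.pr_ideal C (by
    haveI := CurvLib.isNoetherian k (X := X)
    exact CurvLib.isCoh_of_isInvertible (IntMultLib.isInvertible_idealMod C hC)) hT, IntFunLib.N, IntFunLib.N,
    IntFunLib.N, CurvLib.euler_congr (swapIso T (ClSub.quotMod C))]
  ring

end SurfAmpleLib
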