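import Groth.Agent.SurfAmpleLib.Ramanujam
import Groth.Agent.SurfAmpleLib.Adj

/-!
# Divisors without first cohomology
-/

set_option autoImplicit false
set_option linter.style.haveILetI false
set_option maxHeartbeats 1000000
universe u

open CategoryTheory CategoryTheory.Limits AlgebraicGeometry TopologicalSpace Opposite
open HilbPolyLib DevissLib IntMultLib IntFunLib HodgeIdxLib
open KFlatLib (pb)

noncomputable section

namespace SurfAmpleLib

variable {k : Type u} [Field k] {X : Scheme.{u}} [X.Over (Spec (CommRingCat.of k))]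
  [IsProper (X ↘ Spec (CommRingCat.of k))]

/-- On an integral curve without first cohomology, modules of degree at least `-1` have none either. -/
theorem h1_curve_zero [IsAlgClosed k] [IsIntegral X] (hX : topologicalKrullDim X = 1) {P : X.Modules}
    (hP : PicF.IsInvertible P) (h1 : hh k (Coh.structureModule X) 1 = 0)
    (hd : -1 ≤ N k [P] (Coh.structureModule X)) : hh k P 1 = 0 := by
  haveI := CurvLib.isNoetherian k (X := X)
  have hle : ∀ M : X.Modules, topologicalKrullDim (CohB1.support M) ≤ ((1 : ℕ) : WithBot ℕ∞) := fun M =>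
    (topologicalKrullDim_subspace_le _ _).trans (by rw [hX, Nat.cast_one])
  have hP' := CurvLib.isCoh_of_isInvertible hP
  rw [← euler_sub_eq_N, euler_eq_of_dim_one hP' (hle P),
    euler_eq_of_dim_one (DevissLib.isCoh_structureModule X) (hle _), SurfNumLib.h0_structure k, h1] at hd
  rcases Nat.eq_zero_or_pos (hh k P 0) with h0 | h0
  · omega
  haveI := CurvLib.finite_HH (k := k) hP' 0
  obtain ⟨φ, hφ⟩ := CurvLib.exists_hom_ne_zero (L := P) (Module.nontrivial_of_finrank_pos (R := k) h0)
  obtain ⟨hc, hdim⟩ := dim_cokernel_le k (n := 0) (by rw [hX]; simp) hP hφ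
  have h := hh_le_mid (k := k) (cokSeq_shortExact hP hφ) (DevissLib.isCoh_structureModule X) hP' hc 1
  change hh k P 1 ≤ hh k (Coh.structureModule X) 1 + hh k (cokernel φ) 1 at h
  haveI := CurvLib.subsingleton_HH_of_support_dim (cokernel φ) hc.2 (d := 0) hdim 1 one_pos
  rw [h1, show hh k (cokernel φ) 1 = 0 from Module.finrank_zero_of_subsingleton] at h
  omega

/-- The ambient form. -/
theorem h1_quot_zero [IsAlgClosed k] {L : X.Modules} (hL : PicF.IsInvertible L) (C : X.IdealSheafData)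
    [IsIntegral C.subscheme] (hd : topologicalKrullDim (C.support : Set X) = 1)
    (h1 : hh k (ClSub.quotMod C) 1 = 0) (hdeg : -1 ≤ N k [L] (ClSub.quotMod C)) :
    hh k (CohB1.tensorMod L (ClSub.quotMod C)) 1 = 0 := by
  letI : C.subscheme.Over (Spec (CommRingCat.of k)) := ⟨C.subschemeι ≫ (X ↘ Spec (CommRingCat.of k))⟩
  haveI : IsProper (C.subscheme ↘ Spec (CommRingCat.of k)) :=
    inferInstanceAs (IsProper (C.subschemeι ≫ (X ↘ Spec (CommRingCat.of k))))
  haveI := CurvLib.isNoetherian k (X := C.subscheme)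
  have hW : topologicalKrullDim C.subscheme = 1 :=
    ((C.subschemeι.isEmbedding.toHomeomorph.trans
      (Homeomorph.setCongr C.range_subschemeι)).isHomeomorph.topologicalKrullDim_eq).trans hd
  have hPW := AmpleDevLib.isInvertible_pb C.subschemeι hL
  obtain ⟨e⟩ := nonempty_quot_push k L hL C
  haveI : Coh.IsQCoh (pb C.subschemeι L) := (CurvLib.isCoh_of_isInvertible hPW).1
  have hh0 : hh k (CohB1.tensorMod L (ClSub.quotMod C)) 1 = hh k (pb C.subschemeι L) 1 := by
    rw [← hh_congr (k := k) e 1]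
    exact ((PushLinLib.euler_push k C.subschemeι rfl _).1 1).symm
  have hN : N k [pb C.subschemeι L] (Coh.structureModule C.subscheme) = N k [L] (ClSub.quotMod C) :=
    N_push (k := k) rfl (l := [L]) (by simpa using hL) (DevissLib.isCoh_structureModule C.subscheme)
      ((topologicalKrullDim_subspace_le _ _).trans (by rw [hW]; simp))
  rw [hh0]
  exact h1_curve_zero hW hPW (by rw [← SurfNumLib.hh_quot C rfl]; exact h1) (hN ▸ hdeg)

variable [IsAlgClosed k] [IsIntegral X] [Smooth (X ↘ Spec (CommRingCat.of k))]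
  (hX : topologicalKrullDim X = ((2 : ℕ) : WithBot ℕ∞))

include hX

theorem support_dim_quot {Z : X.IdealSheafData} (hZ : BlowUp.IsEffCartierIdeal Z) :
    topologicalKrullDim (CohB1.support (ClSub.quotMod Z)) ≤ ((1 : ℕ) : WithBot ℕ∞) := by
  rw [SurfNumLib.support_quotMod_eq]
  refine dim_closed_le hX Z.support.isClosed fun h => ?_
  refine SurfNumLib.effCartier_ne_bot hZ (Scheme.IdealSheafData.support_eq_top_iff.mp ?_)
  exact top_le_iff.mp fun x _ => closure_minimal (Set.singleton_subset_iff.mpr h) Z.support.isClosed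
    (by rw [(genericPoint_spec X).def]; trivial)

theorem one_le_h0_quot {Z : X.IdealSheafData} (hZ : BlowUp.IsEffCartierIdeal Z) (hne : Z ≠ ⊤) :
    1 ≤ hh k (ClSub.quotMod Z) 0 := by
  haveI := CurvLib.isNoetherian k (X := X)
  obtain ⟨H, hH⟩ := exists_ample_of_smooth k hX
  have hI := IntMultLib.isInvertible_idealMod Z hZ
  have h2 := hh_le_mid (k := k) (CurvLib.idealSeq_shortExact Z) (CurvLib.isCoh_of_isInvertible hI)
    (DevissLib.isCoh_structureModule X) (CurvLib.isCoh_quotMod Z) 0
  change hh k (Coh.structureModule X) 0 ≤ hh k (ClSub.idealMod Z) 0 + hh k (ClSub.quotMod Z) 0 at h2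
  rw [SurfNumLib.h0_structure k, SurfNumLib.h0_ideal_zero (k := k) hX hZ hne hH] at h2
  omega

/-- Nonpositive genus of all sub-divisors kills the first cohomology. -/
theorem h1_twist_zero (d : ℕ) {L : X.Modules} (hL : PicF.IsInvertible L) {W : X.Modules} (hW : ExtPow.IsExtPow 2 (Omega.sheaf (X ↘ Spec (CommRingCat.of k))) W)
    {H : X.Modules} (hH : CohB1.IsAmple H) :
    ∀ Z : X.IdealSheafData, BlowUp.IsEffCartierIdeal Z → Z ≠ ⊤ → (-pr k (ClSub.idealMod Z) H).toNat = d →
      (∀ Y J : X.IdealSheafData, BlowUp.IsEffCartierIdeal Y → BlowUp.IsEffCartierIdeal J → Y ≠ ⊤ → Z = Y * J →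
        1 ≤ Curv2.euler k X (ClSub.quotMod Y)) →
      (∀ c : X, topologicalKrullDim (closure ({c} : Set X)) = ((1 : ℕ) : WithBot ℕ∞) → Z ≤ ptIdeal c →
        0 ≤ N k [L] (Fpt c)) →
      hh k (CohB1.tensorMod L (ClSub.quotMod Z)) 1 = 0 := by
  haveI := CurvLib.isNoetherian k (X := X)
  have hWi := isInvertible_canonical hX hW
  induction d using Nat.strong_induction_on with
  | _ d ih =>
    intro Z hZ hne hd hsub hdegL
    have hI := IntMultLib.isInvertible_idealMod Z hZ
    have hχ := hsub Z 1 hZ isEffCartier_one hne (mul_one Z).symm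
    have hadj := adjunction hX hW hZ
    obtain ⟨e⟩ := MiscFlat6.nonempty_dualIso hI
    have hD := MiscFlat6.dual_isInvertible hI
    have hA := HilbPolyLib.isInvertible_tensor hD hWi
    obtain ⟨c, hc, hcZ, hcneg⟩ := exists_curve_neg (k := k) hX hZ hA (by
      rw [pr_comm, pr_tensor hX.le hD hWi hI, pr_inverse hX.le hI hD hI e, pr_comm W]
      omega)
    haveI := isIntegral_ptIdeal c
    let C := ptIdeal c
    have hdc : topologicalKrullDim ((ptIdeal c).support : Set X) = 1 := by rw [IntFunLib.dim_ptIdeal, hc, Nat.cast_one]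
    have hC := isEffCartier_curve' k hX (ptIdeal c) hdc
    have hCi := IntMultLib.isInvertible_idealMod _ hC
    obtain ⟨Y, hY, hYe⟩ := exists_eq_mul hZ hC (le_ptIdeal hcZ)
    have hCne : ptIdeal c ≠ ⊤ := SurfNumLib.ne_top_of_dim hdc
    have hχC := hsub (ptIdeal c) Y hC hY hCne hYe.symm
    rw [euler_eq_of_dim_one (CurvLib.isCoh_quotMod _) (support_dim_quot hX hC), SurfNumLib.h0_quot (ptIdeal c)] at hχC
    have hC1 : hh k (ClSub.quotMod (ptIdeal c)) 1 = 0 := by omega
    have hLc := hdegL c hc (le_ptIdeal hcZ)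
    rcases eq_or_ne Y ⊤ with rfl | hYne
    · rw [← hYe, show ptIdeal c * (⊤ : X.IdealSheafData) = ptIdeal c from mul_one _]
      refine h1_quot_zero hL _ hdc hC1 ?_
      change -1 ≤ N k [L] (Fpt c)
      omega
    have hlt : (-pr k (ClSub.idealMod Y) H).toNat < d := by
      have h1 := N_mul (k := k) hC hY (l := [H]) (by simpa using hH.1) (DevissLib.isCoh_structureModule X)
        ((topologicalKrullDim_subspace_le _ _).trans hX.le)
      rw [hYe] at h1
      change pr k (ClSub.idealMod Z) H = pr k (ClSub.idealMod (ptIdeal c)) H + pr k (ClSub.idealMod Y) H at h1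
      have h2 := SurfNumLib.pr_effCartier_pos (k := k) hX hC hCne hH
      have h3 := SurfNumLib.pr_effCartier_pos (k := k) hX hY hYne hH
      omega
    have hY1 := ih _ hlt Y hY hYne rfl (fun Y' J hY' hJ hne' he => hsub Y' (J * ptIdeal c) hY'
      (AlgSpRegLib.isEffCartier_mul hJ hC) hne' (by rw [← mul_assoc, ← he, mul_comm, hYe]))
      fun c' hc' hle => hdegL c' hc' (le_trans (by rw [← hYe, mul_comm]; exact mul_le_left' _ _) hle)
    have hIY := IntMultLib.isInvertible_idealMod Y hY
    have hdeg : -1 ≤ N k [ClSub.idealMod Y] (ClSub.quotMod (ptIdeal c)) := by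
      have hd1 : topologicalKrullDim (CohB1.support (ClSub.quotMod (ptIdeal c))) ≤
          (((List.length ([] : List X.Modules)) + 1 : ℕ) : WithBot ℕ∞) := by simpa using support_dim_quot hX hC
      have h1 := N_mul (k := k) hC hY (l := []) (by simp) (CurvLib.isCoh_quotMod (ptIdeal c)) hd1
      rw [hYe] at h1
      have h2 := curve_adjunction hX hW (ptIdeal c) hdc
      rw [SurfNumLib.pr_ideal _ (CurvLib.isCoh_of_isInvertible hCi) hCi,
        SurfNumLib.pr_ideal _ (CurvLib.isCoh_of_isInvertible hCi) hWi, hC1] at h2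
      change N k [CohB1.tensorMod (MiscFlat6.dual (ClSub.idealMod Z)) W] (ClSub.quotMod (ptIdeal c)) < 0 at hcneg
      rw [N_tensor (k := k) (l := []) (by simp) hD hWi (CurvLib.isCoh_quotMod _) hd1,
        N_inv_head (k := k) (l := []) hI hD e (by simp) (CurvLib.isCoh_quotMod _) hd1] at hcneg
      omega
    obtain ⟨S, hS, ⟨e₁⟩, ⟨e₂⟩, ⟨e₃⟩⟩ := exists_quotSeq hY hC
    have hT := HilbPolyLib.shortExact_tensor hL hS
    have hle := hh_le_mid (k := k) hT
      (HilbPolyLib.isCoh_tensor hL (QCohLib.isCoh_of_iso e₁.symm (HilbPolyLib.isCoh_tensor hIY (CurvLib.isCoh_quotMod _))))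
      (HilbPolyLib.isCoh_tensor hL (QCohLib.isCoh_of_iso e₂.symm (CurvLib.isCoh_quotMod _)))
      (HilbPolyLib.isCoh_tensor hL (QCohLib.isCoh_of_iso e₃.symm (CurvLib.isCoh_quotMod _))) 1
    change hh k (CohB1.tensorMod L S.X₂) 1 ≤ hh k (CohB1.tensorMod L S.X₁) 1 + hh k (CohB1.tensorMod L S.X₃) 1 at hle
    have f₁ := congrRight L e₁ ≪≫ (assocIso L (ClSub.idealMod Y) (ClSub.quotMod (ptIdeal c))).symm
    have hdeg' : -1 ≤ N k [CohB1.tensorMod L (ClSub.idealMod Y)] (ClSub.quotMod (ptIdeal c)) := by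
      rw [N_tensor (k := k) (l := []) (by simp) hL hIY (CurvLib.isCoh_quotMod _) (by simpa using support_dim_quot hX hC)]
      change -1 ≤ N k [L] (Fpt c) + N k [ClSub.idealMod Y] (Fpt c)
      change -1 ≤ N k [ClSub.idealMod Y] (Fpt c) at hdeg
      omega
    rw [hh_congr (k := k) f₁ 1, hh_congr (k := k) (congrRight L e₂) 1, hh_congr (k := k) (congrRight L e₃) 1,
      mul_comm Y, hYe, hY1, h1_quot_zero (HilbPolyLib.isInvertible_tensor hL hIY) _ hdc hC1 hdeg'] at hle
    omega

/-- The untwisted form. -/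
theorem h1_zero_of_genus (d : ℕ) {W : X.Modules} (hW : ExtPow.IsExtPow 2 (Omega.sheaf (X ↘ Spec (CommRingCat.of k))) W)
    {H : X.Modules} (hH : CohB1.IsAmple H) (Z : X.IdealSheafData) (hZ : BlowUp.IsEffCartierIdeal Z) (hne : Z ≠ ⊤)
    (hd : (-pr k (ClSub.idealMod Z) H).toNat = d)
    (hsub : ∀ Y J : X.IdealSheafData, BlowUp.IsEffCartierIdeal Y → BlowUp.IsEffCartierIdeal J → Y ≠ ⊤ → Z = Y * J →
      1 ≤ Curv2.euler k X (ClSub.quotMod Y)) : hh k (ClSub.quotMod Z) 1 = 0 := by
  haveI := CurvLib.isNoetherian k (X := X)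
  rw [← hh_congr (k := k) (unitLeft (ClSub.quotMod Z)) 1]
  refine h1_twist_zero hX d CurvLib.isInvertible_structureModule hW hH Z hZ hne hd hsub fun c hc _ => ge_of_eq ?_
  rw [N, N, N, CurvLib.euler_congr (unitLeft (Fpt c)), sub_self]

end SurfAmpleLib
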