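import Groth.Agent.SurfNumLib.IdealMul
import Groth.Agent.Ref1Lib.DivProps

/-!
# Rational functions with bounded poles and the maps they define on ideals
-/

set_option autoImplicit false
set_option linter.style.haveILetI false
set_option backward.isDefEq.respectTransparency false
set_option maxHeartbeats 1000000
universe u

open CategoryTheory CategoryTheory.Limits AlgebraicGeometry TopologicalSpace Opposite
open DevissLib (St)

noncomputable section

namespace SurfAmpleLib

variable {X : Scheme.{u}} [IsIntegral X]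

/-- The rational function of a section. -/
abbrev ev {V : X.Opens} {x : X} (hx : x ∈ V) (a : Γ(X, V)) : X.functionField :=
  algebraMap (X.presheaf.stalk x) X.functionField (X.presheaf.germ V x hx a)

theorem ev_eq_germ {V : X.Opens} {x : X} (hx : x ∈ V) (a : Γ(X, V)) :
    ev hx a = X.presheaf.germ V (genericPoint X) (CDivCoreLib.mem_of_open hx) a :=
  CDivCoreLib.algebraMap_germ hx _ a

theorem ev_pt {V : X.Opens} {x y : X} (hx : x ∈ V) (hy : y ∈ V) (a : Γ(X, V)) : ev hx a = ev hy a := by
  rw [ev_eq_germ, ev_eq_germ]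

theorem ev_res {V W : X.Opens} (h : W ≤ V) {x : X} (hx : x ∈ W) (a : Γ(X, V)) :
    ev hx (X.presheaf.map (homOfLE h).op a) = ev (h hx) a := by
  rw [ev, ev, TopCat.Presheaf.germ_res_apply]

theorem ev_injective {V : X.Opens} {x : X} (hx : x ∈ V) : Function.Injective (ev hx) :=
  (IsFractionRing.injective (X.presheaf.stalk x) X.functionField).comp (germ_injective_of_isIntegral X x hx)

theorem reg_ev {V : X.Opens} {x : X} (hx : x ∈ V) (a : Γ(X, V)) : CDivCoreLib.Reg (ev hx a) x := ⟨_, rfl⟩

/-- `f` has poles bounded by `J`. -/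
def Bd (f : X.functionField) (J : X.IdealSheafData) : Prop :=
  ∀ (V : X.affineOpens), ∀ a ∈ J.ideal V, ∀ (x : X) (hx : x ∈ V.1), CDivCoreLib.Reg (f * ev hx a) x

theorem bd_of_charts {f : X.functionField} {J : X.IdealSheafData}
    (h : ∀ x : X, ∃ (V : X.affineOpens) (hx : x ∈ V.1) (a : Γ(X, V.1)),
      J.ideal V = Ideal.span {a} ∧ CDivCoreLib.Reg (f * ev hx a) x) : Bd f J := by
  intro W b hb x hx
  obtain ⟨V, hxV, a, hV, hreg⟩ := h x
  obtain ⟨g, g', hgg, hxg⟩ := exists_basicOpen_le_affine_inter V.2 W.2 x ⟨hxV, hx⟩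
  let V' : X.affineOpens := X.affineBasicOpen g
  have h₁ : V'.1 ≤ V.1 := X.basicOpen_le g
  have h₂ : V'.1 ≤ W.1 := hgg.le.trans (X.basicOpen_le g')
  have hb' : X.presheaf.map (homOfLE h₂).op b ∈ J.ideal V' := by
    rw [← J.map_ideal (U := V') (V := W) h₂]
    exact Ideal.mem_map_of_mem _ hb
  have hV' : J.ideal V' = Ideal.span {X.presheaf.map (homOfLE h₁).op a} := by
    rw [← J.map_ideal (U := V') (V := V) h₁, hV, Ideal.map_span, Set.image_singleton]
    rfl
  obtain ⟨r, hr⟩ := Ideal.mem_span_singleton'.1 (hV' ▸ hb')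
  have hxV' : x ∈ V'.1 := hxg
  rw [← ev_res h₂ hxV' b, ← hr]
  have he : ev hxV' (r * X.presheaf.map (homOfLE h₁).op a) = ev hxV a * ev hxV' r := by
    rw [mul_comm r, ev, map_mul, map_mul]
    congr 1
    exact ev_res h₁ hxV' a
  rw [he, ← mul_assoc]
  exact CDivCoreLib.reg_mul hreg (reg_ev hxV' r)

/-- A function on the complement of an effective divisor has poles bounded by a multiple of it. -/
theorem exists_bd [CompactSpace X] {U : X.Opens} {u : X} (hu : u ∈ U) (g : Γ(X, U)) {J : X.IdealSheafData}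
    (hJ : BlowUp.IsEffCartierIdeal J) (hsupp : (J.support : Set X)ᶜ ⊆ U) :
    ∃ N : ℕ, ∀ M, N ≤ M → Bd (ev hu g) (J ^ M) := by
  classical
  have hloc : ∀ x : X, ∃ (V : X.affineOpens) (_ : x ∈ V.1) (a : Γ(X, V.1)) (m : ℕ), J.ideal V = Ideal.span {a} ∧
      ∀ M, m ≤ M → ∀ (y : X) (hy : y ∈ V.1), CDivCoreLib.Reg (ev hu g * ev hy (a ^ M)) y := by
    intro x
    obtain ⟨V, hxV, a, ha, hV⟩ := hJ x
    have hle : X.basicOpen a ≤ U := fun y hy => hsupp fun hys => by
      have h := (Scheme.IdealSheafData.mem_support_iff_of_mem (X.basicOpen_le a hy)).1 hys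
      rw [Scheme.mem_zeroLocus_iff] at h
      exact h a (hV ▸ Ideal.mem_span_singleton_self a) hy
    letI := TopCat.Presheaf.algebra_section_stalk X.presheaf ⟨x, hxV⟩
    haveI : IsLocalization.Away a Γ(X, X.basicOpen a) := V.2.isLocalization_basicOpen a
    obtain ⟨m, b, hb⟩ := IsLocalization.Away.surj a (X.presheaf.map (homOfLE hle).op g)
    have ha0 : a ≠ 0 := fun h0 => by
      haveI : Nonempty V.1 := ⟨⟨x, hxV⟩⟩
      exact zero_notMem_nonZeroDivisors (h0 ▸ ha)
    have hη : genericPoint X ∈ X.basicOpen a := by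
      rw [Scheme.mem_basicOpen X _ _ (CDivCoreLib.mem_of_open hxV)]
      refine isUnit_iff_ne_zero.2 fun h0 => ha0 (germ_injective_of_isIntegral X (genericPoint X) (CDivCoreLib.mem_of_open hxV) ?_)
      rw [h0, map_zero]
    have hK : ev hu g * ev hxV a ^ m = ev hxV b := by
      have h := congrArg (ev hη) hb
      have e1 : ∀ c : Γ(X, V.1), ev hη (algebraMap Γ(X, V.1) Γ(X, X.basicOpen a) c) = ev hxV c := fun c =>
        (ev_res (X.basicOpen_le a) hη c).trans (ev_pt (X.basicOpen_le a hη) hxV c)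
      rw [ev, map_mul, map_mul, map_pow, map_pow] at h
      change ev hη (X.presheaf.map (homOfLE hle).op g) * ev hη (algebraMap Γ(X, V.1) Γ(X, X.basicOpen a) a) ^ m =
        ev hη (algebraMap Γ(X, V.1) Γ(X, X.basicOpen a) b) at h
      rw [ev_res, ev_pt _ hu, e1, e1] at h
      exact h
    refine ⟨V, hxV, a, m, hV, fun M hM y hy => ?_⟩
    obtain ⟨d, rfl⟩ : ∃ d, M = m + d := ⟨M - m, by omega⟩
    have : ev hu g * ev hy (a ^ (m + d)) = ev hy (b * a ^ d) := by
      rw [ev, ev, ev, map_pow, map_pow, map_mul, map_mul, map_pow, map_pow, pow_add, ← mul_assoc]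
      congr 1
      change ev hu g * ev hy a ^ m = ev hy b
      rw [ev_pt hy hxV, ev_pt hy hxV]
      exact hK
    rw [this]
    exact reg_ev hy _
  choose V hxV a m hV hreg using hloc
  obtain ⟨S, hS⟩ := isCompact_univ.elim_finite_subcover (fun x => ((V x).1 : Set X))
    (fun x => (V x).1.2) fun x _ => Set.mem_iUnion.mpr ⟨x, hxV x⟩
  refine ⟨S.sup m, fun M hM => bd_of_charts fun x => ?_⟩
  obtain ⟨y, hy, hxy⟩ := Set.mem_iUnion₂.1 (hS (Set.mem_univ x))
  refine ⟨V y, hxy, a y ^ M, ?_, hreg y M ((Finset.le_sup hy).trans hM) x hxy⟩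
  rw [Scheme.IdealSheafData.ideal_pow, Pi.pow_apply, hV y, Ideal.span_singleton_pow]

variable [IsLocallyNoetherian X]

theorem val_mem (J : X.IdealSheafData) (W : X.affineOpens) (s : Γ(ClSub.idealMod J, W.1)) :
    SurfNumLib.val J s ∈ J.ideal W := by
  rw [← IntMultLib.toSubscheme_app_eq_zero_iff]
  have h : ClSub.idealModι J ≫ ClSub.toSubscheme J = 0 := kernel.condition _
  have h2 := congr_arg (fun χ : ClSub.idealMod J ⟶ ClSub.quotMod J => χ.app W.1 s) h
  exact h2

theorem exists_val {f : X.functionField} {J : X.IdealSheafData} (hB : Bd f J) {V : X.Opens}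
    (t : Γ(ClSub.idealMod J, V)) :
    ∃ r : Γ(X, V), ∀ (x : X) (hx : x ∈ V), ev hx r = f * ev hx (SurfNumLib.val J t) := by
  by_cases hne : ∃ x, x ∈ V
  · obtain ⟨x₀, hx₀⟩ := hne
    obtain ⟨r, hr⟩ := Ref1Lib.exists_section_of_reg' (CDivCoreLib.mem_of_open hx₀)
      (f * ev hx₀ (SurfNumLib.val J t)) fun y hy => by
      obtain ⟨W, hW, hyW, hWV⟩ := exists_isAffineOpen_mem_and_subset hy
      rw [ev_pt hx₀ hy, ← ev_res (W := W) hWV hyW, ← SurfNumLib.val_res J hWV]
      exact hB ⟨W, hW⟩ _ (val_mem J ⟨W, hW⟩ _) y hyW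
    refine ⟨r, fun x hx => ?_⟩
    rw [ev_eq_germ hx r, ev_pt hx hx₀]
    exact hr
  · exact ⟨0, fun x hx => absurd ⟨x, hx⟩ hne⟩

/-- Sections are equal when their rational functions are. -/
theorem ext_ev {V : X.Opens} {r r' : Γ(X, V)} (h : ∀ (x : X) (hx : x ∈ V), ev hx r = ev hx r') : r = r' :=
  TopCat.Presheaf.section_ext X.sheaf _ _ _ fun x hx =>
    IsFractionRing.injective (X.presheaf.stalk x) X.functionField (h x hx)

theorem exists_hom {f : X.functionField} {J : X.IdealSheafData} (hB : Bd f J) :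
    ∃ θ : ClSub.idealMod J ⟶ Coh.structureModule X, ∀ (V : X.Opens) (t : Γ(ClSub.idealMod J, V)) (x : X) (hx : x ∈ V),
      ev hx (show Γ(X, V) from θ.app V t) = f * ev hx (SurfNumLib.val J t) := by
  choose r hr using fun (V : X.Opens) (t : Γ(ClSub.idealMod J, V)) => exists_val hB t
  have hadd : ∀ V t t', r V (t + t') = r V t + r V t' := fun V t t' => ext_ev fun x hx => by
    have e1 : SurfNumLib.val J (t + t') = SurfNumLib.val J t + SurfNumLib.val J t' :=
      map_add ((ClSub.idealModι J).app V).hom t t'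
    rw [hr, e1]
    simp only [ev, map_add]
    rw [mul_add]
    exact congrArg₂ (· + ·) (hr V t x hx).symm (hr V t' x hx).symm
  have hlin : ∀ V (c : Γ(X, V)) t, r V (c • t) = c * r V t := fun V c t => ext_ev fun x hx => by
    rw [hr, SurfNumLib.val_smul]
    simp only [ev, map_mul]
    rw [mul_left_comm]
    exact congrArg (ev hx c * ·) (hr V t x hx).symm
  have hnat : ∀ {V W : X.Opens} (h : W ≤ V) (t : Γ(ClSub.idealMod J, V)),
      r W ((ClSub.idealMod J).presheaf.map (homOfLE h).op t) = X.presheaf.map (homOfLE h).op (r V t) := by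
    intro V W h t
    refine ext_ev fun x hx => ?_
    rw [hr, ev_res, hr]
    exact congrArg (f * ·) ((congrArg (ev hx) (SurfNumLib.val_res J h t)).trans (ev_res h hx _))
  refine ⟨⟨PresheafOfModules.homMk (M₁ := (ClSub.idealMod J).val) (M₂ := (Coh.structureModule X).val)
    { app := fun W => AddCommGrpCat.ofHom
        (AddMonoidHom.mk' (fun t : Γ(ClSub.idealMod J, W.unop) => r W.unop t) (hadd W.unop))
      naturality := fun W W' i => by
        ext t
        exact hnat i.unop.le t }
    (fun W c t => hlin W.unop c t)⟩, fun V t x hx => hr V t x hx⟩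

/-- At a point of the cokernel all values are non-units. -/
theorem notMem_basicOpen {J : X.IdealSheafData} {θ : ClSub.idealMod J ⟶ Coh.structureModule X} {c : X}
    (hc : c ∈ CohB1.support (cokernel θ)) {V : X.Opens} (t : Γ(ClSub.idealMod J, V)) :
    c ∉ X.basicOpen (show Γ(X, V) from θ.app V t) := by
  intro hcb
  refine hc ⟨fun p q => ?_⟩
  have key : ∀ p, p = (0 : (DerSch.stalkFunctor X c).obj (cokernel θ)) := fun p => by
    obtain ⟨b, rfl⟩ := (ModuleCat.epi_iff_surjective _).mp
      (inferInstance : Epi ((DerSch.stalkFunctor X c).map (cokernel.π θ))) p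
    obtain ⟨a, rfl⟩ : ∃ a, ((DerSch.stalkFunctor X c).map θ).hom a = b := by
      obtain ⟨W, hcW, q, rfl⟩ := (Coh.structureModule X).presheaf.exists_germ_eq b
      let r : Γ(X, V) := θ.app V t
      let D : X.Opens := W ⊓ X.basicOpen r
      have hcD : c ∈ D := ⟨hcW, hcb⟩
      have hDV : D ≤ V := inf_le_right.trans (X.basicOpen_le r)
      have hunit : IsUnit (X.presheaf.map (homOfLE hDV).op r) := by
        have h0 : IsUnit (X.presheaf.map (homOfLE (X.basicOpen_le r)).op r) :=
          RingedSpace.isUnit_res_basicOpen X.toRingedSpace r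
        have h := h0.map (X.presheaf.map (homOfLE (inf_le_right : D ≤ X.basicOpen r)).op).hom
        change IsUnit ((X.presheaf.map (homOfLE (X.basicOpen_le r)).op ≫
          X.presheaf.map (homOfLE (inf_le_right : D ≤ X.basicOpen r)).op) r) at h
        rw [← Functor.map_comp] at h
        exact h
      obtain ⟨w, hw⟩ := hunit
      let c' : Γ(X, D) := X.presheaf.map (homOfLE (inf_le_left : D ≤ W)).op (show Γ(X, W) from q) * (↑w⁻¹ : Γ(X, D))
      refine ⟨(ClSub.idealMod J).presheaf.germ D c hcD (c' • (ClSub.idealMod J).presheaf.map (homOfLE hDV).op t), ?_⟩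
      refine (DerSch.stalkFunctor_map_germ c θ D hcD _).trans ?_
      rw [QCohLib.app_smul, QCohLib.app_map θ (homOfLE hDV) t]
      have : c' • (Coh.structureModule X).presheaf.map (homOfLE hDV).op (θ.app V t) =
          (Coh.structureModule X).presheaf.map (homOfLE (inf_le_left : D ≤ W)).op q := by
        change c' * X.presheaf.map (homOfLE hDV).op r =
          X.presheaf.map (homOfLE (inf_le_left : D ≤ W)).op (show Γ(X, W) from q)
        rw [← hw, mul_assoc, Units.inv_mul, mul_one]
      rw [this]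
      exact TopCat.Presheaf.germ_res_apply (Coh.structureModule X).presheaf _ c hcD q
    rw [← ModuleCat.comp_apply, ← Functor.map_comp, cokernel.condition, Functor.map_zero]
    rfl
  exact (key p).trans (key q).symm

/-- A function vanishing at a point puts that point in the cokernel. -/
theorem mem_support_of_nonunit {U : X.Opens} {u : X} (hu : u ∈ U) (g : Γ(X, U)) (hgu : u ∉ X.basicOpen g)
    {J : X.IdealSheafData} {θ : ClSub.idealMod J ⟶ Coh.structureModule X}
    (hθ : ∀ (V : X.Opens) (t : Γ(ClSub.idealMod J, V)) (x : X) (hx : x ∈ V),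
      ev hx (show Γ(X, V) from θ.app V t) = ev hu g * ev hx (SurfNumLib.val J t)) :
    u ∈ CohB1.support (cokernel θ) := by
  intro hsub
  have hS : (ShortComplex.mk θ (cokernel.π θ) (cokernel.condition θ)).Exact := ShortComplex.exact_cokernel θ
  have hex := (ShortComplex.moduleCat_exact_iff _).1 (hS.map (DerSch.stalkFunctor X u))
  obtain ⟨s, hs⟩ := hex ((Coh.structureModule X).presheaf.germ ⊤ u (show u ∈ (⊤ : X.Opens) from trivial) (1 : Γ(X, ⊤)))
    (@Subsingleton.elim _ hsub _ _)
  obtain ⟨V, huV, t, rfl⟩ := (ClSub.idealMod J).presheaf.exists_germ_eq s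
  have hs' := ((DerSch.stalkFunctor_map_germ u θ V huV t).symm.trans hs : _)
  obtain ⟨W, huW, iV, iT, hW⟩ := (Coh.structureModule X).presheaf.germ_eq u huV (show u ∈ (⊤ : X.Opens) from trivial) _ _ hs'
  change X.presheaf.map iV.op (show Γ(X, V) from θ.app V t) = X.presheaf.map iT.op (1 : Γ(X, ⊤)) at hW
  rw [map_one] at hW
  have h2 := hθ V t u huV
  have h1 : ev huV (show Γ(X, V) from θ.app V t) = 1 := by
    rw [← ev_res iV.le huW, show X.presheaf.map (homOfLE iV.le).op (show Γ(X, V) from θ.app V t) = 1 from hW, ev,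
      map_one, map_one]
  rw [h1, ev, ev, ← map_mul] at h2
  have h3 : X.presheaf.germ U u hu g * X.presheaf.germ V u huV (SurfNumLib.val J t) = 1 :=
    IsFractionRing.injective (X.presheaf.stalk u) X.functionField (by rw [← h2, map_one])
  refine hgu ?_
  rw [Scheme.mem_basicOpen X _ _ hu]
  exact IsUnit.of_mul_eq_one _ h3

/-- A function regular on every affine open is bounded by the trivial divisor. -/
theorem exists_not_reg [X.IsSeparated] {U : X.Opens} (hU : IsAffineOpen U) {u c : X} (hu : u ∈ U) (hc : c ∉ U) :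
    ∃ g : Γ(X, U), ¬ CDivCoreLib.Reg (ev hu g) c := by
  by_contra hall
  push Not at hall
  have hη : genericPoint X ∈ U := CDivCoreLib.mem_of_open hu
  choose φ hφ using hall
  have hinj := IsFractionRing.injective (X.presheaf.stalk c) X.functionField
  let φ' : Γ(X, U) →+* X.presheaf.stalk c :=
    { toFun := φ
      map_one' := hinj (by rw [hφ, ev, map_one, map_one, map_one])
      map_mul' := fun a b => hinj (by rw [hφ, map_mul, hφ, hφ, ev, ev, ev, map_mul, map_mul])
      map_zero' := hinj (by rw [hφ, ev, map_zero, map_zero, map_zero])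
      map_add' := fun a b => hinj (by rw [hφ, map_add, hφ, hφ, ev, ev, ev, map_add, map_add]) }
  let γ : Spec (X.presheaf.stalk c) ⟶ X := Spec.map (CommRingCat.ofHom φ') ≫ hU.fromSpec
  let ι : Spec X.functionField ⟶ Spec (X.presheaf.stalk c) :=
    Spec.map (X.presheaf.stalkSpecializes (genericPoint_specializes c))
  haveI : IsDominant ι := by
    refine ⟨?_⟩
    refine (PrimeSpectrum.denseRange_comap_iff_ker_le_nilRadical _).2 ?_
    refine le_of_eq_of_le ((RingHom.injective_iff_ker_eq_bot _).1 ?_) bot_le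
    exact hinj
  have heq : ι ≫ γ = ι ≫ X.fromSpecStalk c := by
    rw [Scheme.SpecMap_stalkSpecializes_fromSpecStalk]
    rw [← Category.assoc, ← Spec.map_comp, ← hU.fromSpecStalk_eq_fromSpecStalk hη]
    refine congrArg (fun ψ => Spec.map ψ ≫ hU.fromSpec) ?_
    ext a
    exact (hφ a).trans (ev_eq_germ hu a)
  have h := ext_of_isDominant ι heq
  have hmem := congrArg (fun ψ : Spec (X.presheaf.stalk c) ⟶ X => ψ (IsLocalRing.closedPoint (X.presheaf.stalk c))) h
  simp only [Scheme.fromSpecStalk_closedPoint] at hmem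
  refine hc (hmem ▸ ?_)
  exact hU.range_fromSpec.le ⟨_, rfl⟩

end SurfAmpleLib
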