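import Groth.Agent.SurfAmpleLib.Curve
import Groth.Agent.SurfAmpleLib.Prod
import Groth.Agent.SurfAmpleLib.Pole
import Groth.Agent.SurfNumLib.Proper
import Groth.Agent.CurveVBLib.Integral
import Groth.Agent.IntMultLib.Dim0
import Groth.Agent.AVAmpleLib.Divisor
import Groth.Agent.S2851
import Groth.Agent.S7749

/-!
# The boundary of an affine open of a regular proper surface carries an ample divisor
-/

set_option autoImplicit false
set_option linter.style.haveILetI false
set_option maxHeartbeats 1000000
universe u

open CategoryTheory CategoryTheory.Limits AlgebraicGeometry TopologicalSpace Opposite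
open HilbPolyLib DevissLib IntMultLib IntFunLib HodgeIdxLib

noncomputable section

namespace SurfAmpleLib

variable {k : Type u} [Field k] {X : Scheme.{u}} [X.Over (Spec (CommRingCat.of k))]
  [IsProper (X ↘ Spec (CommRingCat.of k))] [IsIntegral X]
  (hX : topologicalKrullDim X = ((2 : ℕ) : WithBot ℕ∞))

omit [X.Over (Spec (CommRingCat.of k))] [IsProper (X ↘ Spec (CommRingCat.of k))] in
theorem mem_ptIdeal {c : X} (V : X.affineOpens) {b : Γ(X, V.1)} (hb : c ∉ X.basicOpen b) :
    b ∈ (ptIdeal c).ideal V := by
  change b ∈ PrimeSpectrum.vanishingIdeal (V.2.fromSpec ⁻¹' closure ({c} : Set X))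
  refine (PrimeSpectrum.mem_vanishingIdeal _ _).2 fun q hq => ?_
  by_contra hbq
  have hmem : V.2.fromSpec q ∈ X.basicOpen b := by
    have h : q ∈ V.2.fromSpec ⁻¹ᵁ X.basicOpen b := by
      rw [V.2.fromSpec_preimage_basicOpen]
      exact hbq
    exact h
  exact hb ((specializes_iff_mem_closure.mpr hq).mem_open (X.basicOpen b).2 hmem)

variable (k) in
include k in
/-- A closed curve is not contained in an affine open. -/
theorem exists_mem_notMem {U : X.Opens} (hU : IsAffineOpen U) {c : X}
    (hc : topologicalKrullDim (closure ({c} : Set X)) = ((1 : ℕ) : WithBot ℕ∞)) :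
    ∃ x ∈ closure ({c} : Set X), x ∉ U := by
  by_contra hall
  push Not at hall
  let W := (ptIdeal c).subscheme
  let g : W ⟶ X := (ptIdeal c).subschemeι
  letI : W.Over (Spec (CommRingCat.of k)) := ⟨g ≫ (X ↘ Spec (CommRingCat.of k))⟩
  haveI : IsProper (W ↘ Spec (CommRingCat.of k)) :=
    inferInstanceAs (IsProper (g ≫ (X ↘ Spec (CommRingCat.of k))))
  have hpre : g ⁻¹ᵁ U = ⊤ := top_le_iff.mp fun w _ => hall (g w) (by rw [← range_ptIdeal c]; exact ⟨w, rfl⟩)
  haveI : IsAffine W := by
    have h := hU.preimage g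
    rw [hpre] at h
    haveI : IsAffine (⊤ : W.Opens).toScheme := h
    exact IsAffine.of_isIso W.topIso.inv
  haveI : IsAffineHom (W ↘ Spec (CommRingCat.of k)) := isAffineHom_of_isAffine _
  haveI : IsFinite (W ↘ Spec (CommRingCat.of k)) :=
    IsFinite.iff_isProper_and_isAffineHom.mpr ⟨inferInstance, inferInstance⟩
  have h := IntMultLib.dim_le_zero_of_isFinite k (X := W)
  rw [(g.isEmbedding.toHomeomorph.trans (Homeomorph.setCongr (range_ptIdeal c))).isHomeomorph.topologicalKrullDim_eq, hc] at h
  have : (1 : ℕ) ≤ 0 := by exact_mod_cast h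
  omega

include hX

theorem dim_closed_le {Y : Set X} (hY : IsClosed Y) (hη : genericPoint X ∉ Y) :
    topologicalKrullDim Y ≤ ((1 : ℕ) : WithBot ℕ∞) := by
  have h := dim_lt_of_notMem hY (fun y _ => by rw [(genericPoint_spec X).def]; trivial) hη
    (Set.subset_univ (closure ({genericPoint X} : Set X))) (d := 2) (by
      rw [(Homeomorph.Set.univ X).isHomeomorph.topologicalKrullDim_eq, hX]
      exact_mod_cast Nat.lt_succ_self 2)
  revert h
  generalize topologicalKrullDim Y = b
  intro h
  induction b using WithBot.recBotCoe with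
  | bot => exact bot_le
  | coe b =>
    induction b using ENat.recTopCoe with
    | top => exact absurd h (not_lt.mpr (by exact_mod_cast le_top))
    | coe m =>
      have h' := WithBot.coe_lt_coe.mp h
      have : m < 2 := ENat.coe_lt_coe.mp h'
      exact_mod_cast (show m ≤ 1 by omega)

theorem ne_generic_of_dim {c : X} (hc : topologicalKrullDim (closure ({c} : Set X)) = ((1 : ℕ) : WithBot ℕ∞)) :
    c ≠ genericPoint X := fun h => by
  rw [h, SurfNumLib.dim_generic hX] at hc
  have : (2 : ℕ) = 1 := by exact_mod_cast hc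
  omega

variable (k) in
include k in
/-- Every point outside an affine open lies on a curve outside it. -/
theorem exists_curve_of_notMem {U : X.Opens} (hU : IsAffineOpen U) {x u : X} (hu : u ∈ U) (hx : x ∉ U) :
    ∃ c : X, c ∉ U ∧ topologicalKrullDim (closure ({c} : Set X)) = ((1 : ℕ) : WithBot ℕ∞) ∧ x ∈ closure ({c} : Set X) := by
  haveI := CurvLib.isNoetherian k (X := X)
  haveI : X.IsSeparated := ⟨by
    rw [show Limits.terminal.from X = (X ↘ Spec (CommRingCat.of k)) ≫ Limits.terminal.from _ from Subsingleton.elim _ _]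
    infer_instance⟩
  by_contra hall
  push Not at hall
  have hY : IsClosed ((U : Set X)ᶜ) := U.2.isClosed_compl
  have hd := dim_closed_le hX hY (fun h => h (CDivCoreLib.mem_of_open hu))
  have hzero : ∀ η : X, η ∉ U → η ⤳ x → topologicalKrullDim (closure ({η} : Set X)) = ((0 : ℕ) : WithBot ℕ∞) := by
    intro η hη hηx
    have hle : topologicalKrullDim (closure ({η} : Set X)) ≤ ((1 : ℕ) : WithBot ℕ∞) :=
      (IntFunLib.dim_mono (hY.closure_subset_iff.mpr (Set.singleton_subset_iff.mpr hη))).trans hd
    have hne : topologicalKrullDim (closure ({η} : Set X)) ≠ ((1 : ℕ) : WithBot ℕ∞) := fun h1 =>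
      hall η hη h1 (specializes_iff_mem_closure.mp hηx)
    have h0 := IntFunLib.nonneg_dim (S := closure ({η} : Set X)) ⟨η, subset_closure rfl⟩
    revert hle hne h0
    generalize topologicalKrullDim (closure ({η} : Set X)) = b
    intro hle hne h0
    induction b using WithBot.recBotCoe with
    | bot => simp at h0
    | coe b =>
      induction b using ENat.recTopCoe with
      | top => exact absurd hle (not_le.mpr (by exact_mod_cast ENat.natCast_lt_top 1))
      | coe m =>
        have h1 : m ≤ 1 := by exact_mod_cast hle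
        have h2 : m ≠ 1 := fun h => hne (by rw [h]; rfl)
        rw [show m = 0 by omega]
        rfl
  haveI := AVAmpleLib.isAffineHom_ι (X := X) (fun V W hV hW => hV.inf hW) hU
  have h1 := Groth.Agent.S2851.result X U x hx fun η hη hηx => by
    have h := hzero η hη hηx
    exact (eq_of_specializes_of_dim isClosed_closure (ξ := x) (η := η) (Y := closure ({η} : Set X)) h.le
      (hzero x hx specializes_rfl) (subset_closure rfl) hηx)
  have h2 := FibDimLib.localDim_eq_closure_add_stalk (X ↘ Spec (CommRingCat.of k)) x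
  rw [FibDimLib.localDim_of_irreducible (X ↘ Spec (CommRingCat.of k)) x, hX, hzero x hx specializes_rfl, Nat.cast_zero,
    zero_add] at h2
  rw [← h2] at h1
  have : (2 : ℕ) ≤ 1 := by exact_mod_cast h1
  omega

variable (k) in
include k in
theorem finite_curvePts {U : X.Opens} {u : X} (hu : u ∈ U) :
    {c : X | c ∉ U ∧ topologicalKrullDim (closure ({c} : Set X)) = ((1 : ℕ) : WithBot ℕ∞)}.Finite := by
  haveI := CurvLib.isNoetherian k (X := X)
  exact finite_dim_points (Y := (U : Set X)ᶜ) U.2.isClosed_compl
    (dim_closed_le hX U.2.isClosed_compl fun h => h (CDivCoreLib.mem_of_open hu))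

/-- Nakai's criterion on a surface. -/
theorem isAmple_surface {L : X.Modules} (hL : PicF.IsInvertible L) (hpos : 0 < pr k L L)
    (hcurve : ∀ c : X, topologicalKrullDim (closure ({c} : Set X)) = ((1 : ℕ) : WithBot ℕ∞) → 0 < N k [L] (Fpt c)) :
    CohB1.IsAmple L := by
  refine (Groth.Agent.S7749.result k X L hL).mpr fun Z hZ d hd hdim P hP => ?_
  haveI := hZ
  have hP' : IntMultLib.hilb k (fun _ : Fin d => L) (ClSub.quotMod Z) = IntMultLib.pfun P :=
    funext fun n => (IntMultLib.hilb_eq _ _ n).trans (hP n)
  have key := IntFunLib.coeff_eq_N (k := k) L hL Z hdim P hP'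
  suffices h : 0 < N k (List.replicate d L) (ClSub.quotMod Z) by
    change 0 < P.coeff _
    rw [show P.coeff (Finsupp.equivFunOnFinite.symm fun _ : Fin d => 1) = _ from key]
    exact_mod_cast h
  rw [IntFunLib.eq_ptIdeal Z]
  have hξ := (IntFunLib.dim_generic_of_support Z).trans hdim
  generalize Z.subschemeι (genericPoint Z.subscheme) = ξ at hξ ⊢
  change 0 < N k (List.replicate d L) (Fpt ξ)
  rcases IntFunLib.dim_closure_lt_generic hX hξ with h | ⟨rfl, rfl⟩
  · obtain rfl : d = 1 := by omega
    exact hcurve ξ hξ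
  · rw [show List.replicate 2 L = [L, L] from rfl, ← SurfNumLib.pr_eq_Fpt hX hL hL]
    exact hpos

variable {ι : Type u} [Fintype ι] {pt : ι → X}
  (hpt : ∀ i, topologicalKrullDim (closure ({pt i} : Set X)) = ((1 : ℕ) : WithBot ℕ∞))

variable (k pt) in
/-- The intersection matrix of the curves. -/
def mat (i j : ι) : ℤ := pr k (ClSub.idealMod (ptIdeal (pt i))) (ClSub.idealMod (ptIdeal (pt j)))

variable (k pt) in
/-- The degrees of a combination on the curves. -/
def dot (n : ι → ℕ) (j : ι) : ℤ := ∑ i, (n i : ℤ) * mat k pt i j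

variable (hcart : ∀ i, BlowUp.IsEffCartierIdeal (ptIdeal (pt i)))

include hpt hcart

theorem N_comb_curve (n : ι → ℕ) (j : ι) :
    N k [ClSub.idealMod (comb (fun i => ptIdeal (pt i)) n)] (Fpt (pt j)) = - dot k pt n j := by
  haveI := CurvLib.isNoetherian k (X := X)
  rw [N_comb hcart n (l := []) (by simp) (coh_Fpt k (pt j)) (by rw [supp_Fpt k, hpt j]; simp), dot,
    ← Finset.sum_neg_distrib]
  refine Finset.sum_congr rfl fun i _ => ?_
  rw [mat, pr_comm, SurfNumLib.pr_ideal _ (CurvLib.isCoh_of_isInvertible (IntMultLib.isInvertible_idealMod _ (hcart j)))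
    (IntMultLib.isInvertible_idealMod _ (hcart i))]
  ring

omit hpt in
theorem pr_comb_comb (n m : ι → ℕ) :
    pr k (ClSub.idealMod (comb (fun i => ptIdeal (pt i)) n)) (ClSub.idealMod (comb (fun i => ptIdeal (pt i)) m)) =
      ∑ j, (m j : ℤ) * dot k pt n j := by
  have hn := IntMultLib.isInvertible_idealMod _ (isEffCartier_comb hcart n)
  rw [pr_comm, pr_comb hX.le hcart m hn]
  refine Finset.sum_congr rfl fun j _ => ?_
  rw [pr_comm, pr_comb hX.le hcart n (IntMultLib.isInvertible_idealMod _ (hcart j)), dot]
  rfl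

theorem mat_nonneg (hinj : Function.Injective pt) {i j : ι} (hij : i ≠ j) : 0 ≤ mat k pt i j := by
  haveI := isIntegral_ptIdeal (pt i)
  haveI := isIntegral_ptIdeal (pt j)
  have hd : ∀ l, topologicalKrullDim ((ptIdeal (pt l)).support : Set X) = 1 := fun l => by
    rw [IntFunLib.dim_ptIdeal, hpt l, Nat.cast_one]
  refine SurfNumLib.pr_curves_nonneg (hcart i) (hcart j) (hd j) fun hsub => ?_
  have h1 : pt j ∈ ((ptIdeal (pt i)).support : Set X) := hsub (by
    rw [Scheme.IdealSheafData.coe_support_vanishingIdeal]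
    exact subset_closure rfl)
  rw [Scheme.IdealSheafData.coe_support_vanishingIdeal] at h1
  exact hij (hinj (eq_of_specializes_of_dim isClosed_closure (Y := closure ({pt i} : Set X)) (hpt i).le (hpt j)
    (subset_closure rfl) (specializes_iff_mem_closure.mpr h1)))

/-- A nef combination of positive square with full support can be made positive on all components. -/
theorem exists_positive (hinj : Function.Injective pt) :
    ∀ (r : ℕ) (n : ι → ℕ), (∀ i, n i ≠ 0) → (∀ j, 0 ≤ dot k pt n j) → (∃ j, 0 < dot k pt n j) →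
      (Finset.univ.filter fun j => dot k pt n j = 0).card = r →
      ∃ m : ι → ℕ, (∀ i, m i ≠ 0) ∧ ∀ j, 0 < dot k pt m j := by
  classical
  intro r
  induction r using Nat.strong_induction_on with
  | _ r ih =>
    intro n hn hnef ⟨j₁, hj₁⟩ hr
    by_cases hall : ∀ j, 0 < dot k pt n j
    · exact ⟨n, hn, hall⟩
    push Not at hall
    obtain ⟨j₀, hj₀⟩ := hall
    have hz₀ : dot k pt n j₀ = 0 := le_antisymm hj₀ (hnef j₀)
    have hsq : 0 < ∑ j, (n j : ℤ) * dot k pt n j :=
      Finset.sum_pos' (fun j _ => mul_nonneg (by positivity) (hnef j))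
        ⟨j₁, Finset.mem_univ _, mul_pos (by exact_mod_cast Nat.pos_of_ne_zero (hn j₁)) hj₁⟩
    obtain ⟨i, j, hi, hj, hij⟩ : ∃ i j, dot k pt n i ≠ 0 ∧ dot k pt n j = 0 ∧ mat k pt i j ≠ 0 := by
      by_contra hno
      push Not at hno
      let m : ι → ℕ := fun i => if dot k pt n i = 0 then n i else 0
      have hmn : ∀ j, dot k pt n j = 0 → dot k pt m j = 0 := fun j hj => by
        have hs : dot k pt m j = dot k pt n j := Finset.sum_congr rfl fun i _ => by
          by_cases hi : dot k pt n i = 0
          · simp [m, hi]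
          · simp [m, hi, hno i j hi hj]
        rw [hs, hj]
      have hmm : pr k (ClSub.idealMod (comb (fun i => ptIdeal (pt i)) m))
          (ClSub.idealMod (comb (fun i => ptIdeal (pt i)) m)) = 0 := by
        rw [pr_comb_comb hX hcart]
        refine Finset.sum_eq_zero fun j _ => ?_
        by_cases hj : dot k pt n j = 0
        · rw [hmn j hj, mul_zero]
        · simp [m, hj]
      have hmn' : pr k (ClSub.idealMod (comb (fun i => ptIdeal (pt i)) m))
          (ClSub.idealMod (comb (fun i => ptIdeal (pt i)) n)) = 0 := by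
        rw [pr_comm, pr_comb_comb hX hcart]
        refine Finset.sum_eq_zero fun j _ => ?_
        by_cases hj : dot k pt n j = 0
        · rw [hj, mul_zero]
        · simp [m, hj]
      have hI : ∀ l, PicF.IsInvertible (ClSub.idealMod (comb (fun i => ptIdeal (pt i)) l)) := fun l =>
        IntMultLib.isInvertible_idealMod _ (isEffCartier_comb hcart l)
      refine SurfNumLib.curve_ne_zero_of_effCartier (k := k) hX (isEffCartier_comb hcart m) ?_ fun c hc =>
        SurfNumLib.curve_zero hX (hI n) (hI m) (by rw [pr_comb_comb hX hcart]; exact hsq) hmn' hmm.ge hc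
      intro htop
      have hmem : pt j₀ ∈ (comb (fun i => ptIdeal (pt i)) m).support := by
        rw [mem_support_comb]
        refine ⟨j₀, by simp [m, hz₀, hn j₀], ?_⟩
        rw [← SetLike.mem_coe, Scheme.IdealSheafData.coe_support_vanishingIdeal]
        exact subset_closure rfl
      rw [htop, Scheme.IdealSheafData.support_top] at hmem
      exact hmem
    have hne : i ≠ j := fun h => hi (h ▸ hj)
    let t : ℕ := 1 + (mat k pt i i).natAbs
    let n' : ι → ℕ := fun l => t * n l + if l = i then 1 else 0
    have hdot : ∀ l, dot k pt n' l = (t : ℤ) * dot k pt n l + mat k pt i l := fun l => by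
      simp only [dot, n', Nat.cast_add, Nat.cast_mul, Nat.cast_ite, Nat.cast_one, Nat.cast_zero, add_mul,
        Finset.sum_add_distrib, ite_mul, one_mul, zero_mul, Finset.sum_ite_eq', Finset.mem_univ, if_true,
        Finset.mul_sum, mul_assoc]
    have hmat : ∀ l, l ≠ i → 0 ≤ mat k pt i l := fun l hl => mat_nonneg hX hpt hcart hinj (Ne.symm hl)
    have ht : (1 : ℤ) ≤ t := by simp [t]
    have hkeep : ∀ l, 0 < dot k pt n l → 0 < dot k pt n' l := fun l hl => by
      rw [hdot]
      rcases eq_or_ne l i with rfl | hli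
      · have h1 : (t : ℤ) ≤ t * dot k pt n l := le_mul_of_one_le_right (by omega) hl
        have h2 : (t : ℤ) = 1 + |mat k pt l l| := by simp [t, Int.natCast_natAbs]
        have := neg_abs_le (mat k pt l l)
        omega
      · have := mul_pos (show (0 : ℤ) < t by omega) hl
        have := hmat l hli
        omega
    have hnef' : ∀ l, 0 ≤ dot k pt n' l := fun l => by
      rcases (hnef l).lt_or_eq with h | h
      · exact (hkeep l h).le
      · rw [hdot, ← h, mul_zero, zero_add]
        exact hmat l fun hli => hi (hli ▸ h.symm)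
    have hposj : 0 < dot k pt n' j := by
      rw [hdot, hj, mul_zero, zero_add]
      exact lt_of_le_of_ne (hmat j hne.symm) hij.symm
    refine ih _ ?_ n' (fun l => ?_) hnef' ⟨j, hposj⟩ rfl
    · rw [← hr]
      refine Finset.card_lt_card (Finset.ssubset_iff_of_subset ?_ |>.mpr ⟨j, by simp [hj], by simp [hposj.ne']⟩)
      intro l hl
      simp only [Finset.mem_filter, Finset.mem_univ, true_and] at hl ⊢
      by_contra h
      exact (hkeep l (lt_of_le_of_ne (hnef l) (Ne.symm h))).ne' hl
    · have : 0 < t * n l := Nat.mul_pos (by simp [t]) (Nat.pos_of_ne_zero (hn l))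
      simp only [n']
      omega

end SurfAmpleLib
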