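import Groth.Agent.SurfAmpleLib.Final
import Groth.Agent.SurfNumLib.RRApps

/-!
# Smooth proper surfaces are projective
-/

set_option autoImplicit false
set_option linter.style.haveILetI false
universe u

open CategoryTheory CategoryTheory.Limits AlgebraicGeometry TopologicalSpace Opposite
open HilbPolyLib DevissLib IntMultLib IntFunLib HodgeIdxLib

noncomputable section

namespace SurfAmpleLib

variable (k : Type u) [Field k] {X : Scheme.{u}} [X.Over (Spec (CommRingCat.of k))]
  [IsProper (X ↘ Spec (CommRingCat.of k))] [IsIntegral X]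
  (hX : topologicalKrullDim X = ((2 : ℕ) : WithBot ℕ∞))

include k hX

/-- A regular proper surface carries an ample invertible module. -/
theorem exists_ample_of_regular (hreg : ∀ x : X, IsRegularLocalRing (X.presheaf.stalk x)) :
    ∃ H : X.Modules, CohB1.IsAmple H := by
  haveI := CurvLib.isNoetherian k (X := X)
  obtain ⟨U, hU, hu, -⟩ := exists_isAffineOpen_mem_and_subset (U := (⊤ : X.Opens)) (x := genericPoint X) trivial
  obtain ⟨I, hI, -, hamp⟩ := exists_ample k hX hreg hU hu
  have hinv := IntMultLib.isInvertible_idealMod I hI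
  obtain ⟨e⟩ := MiscFlat6.nonempty_dualIso hinv
  exact ⟨_, hamp _ (MiscFlat6.dual_isInvertible hinv) ⟨swapIso _ _ ≪≫ e⟩⟩

/-- A smooth proper surface carries an ample invertible module. -/
theorem exists_ample_of_smooth [Smooth (X ↘ Spec (CommRingCat.of k))] : ∃ H : X.Modules, CohB1.IsAmple H :=
  exists_ample_of_regular k hX (WeilExtLib.isRegular_stalk_smooth (X ↘ Spec (CommRingCat.of k)))

/-- A smooth proper surface is projective. -/
theorem exists_embedding_of_smooth [Smooth (X ↘ Spec (CommRingCat.of k))] :
    ∃ (n : ℕ) (ι : X ⟶ CohB1.ProjSpace n k), IsClosedImmersion ι ∧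
      ι ≫ CohB1.ProjSpace.toSpec n k = (X ↘ Spec (CommRingCat.of k)) := by
  obtain ⟨H, hH⟩ := exists_ample_of_smooth k hX
  exact SurfNumLib.exists_embedding k hH

end SurfAmpleLib
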