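import Groth.Agent.SurfNumLib.Config
import Groth.Agent.AVAmpleLib.CartierSection

/-!
# Degrees on curves read off from maps of an invertible module into the structure sheaf
-/

set_option autoImplicit false
set_option linter.style.haveILetI false
set_option maxHeartbeats 1000000
universe u

open CategoryTheory CategoryTheory.Limits AlgebraicGeometry TopologicalSpace Opposite
open HilbPolyLib DevissLib IntMultLib IntFunLib HodgeIdxLib
open KFlatLib (pb puSec)
open TwistLib (genSet)

noncomputable section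

namespace SurfAmpleLib

variable {k : Type u} [Field k] {X : Scheme.{u}} [X.Over (Spec (CommRingCat.of k))]
  [IsProper (X ↘ Spec (CommRingCat.of k))] [IsIntegral X]

/-- A section which does not vanish on the curve but vanishes somewhere on it. -/
theorem pos_of_section_curve {P : X.Modules} (hP : PicF.IsInvertible P) (φ : Coh.structureModule X ⟶ P) {c x : X}
    (hc : topologicalKrullDim (closure ({c} : Set X)) = ((1 : ℕ) : WithBot ℕ∞))
    (hcn : c ∉ CohB1.support (cokernel φ)) (hx : x ∈ closure ({c} : Set X)) (hxs : x ∈ CohB1.support (cokernel φ)) :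
    0 < N k [P] (Fpt c) := by
  haveI := CurvLib.isNoetherian k (X := X)
  let σ := φ.app ⊤ (1 : Γ(X, ⊤))
  have hiff : ∀ y : X, y ∈ genSet hP σ ↔ y ∉ CohB1.support (cokernel φ) := by
    intro y
    have hS : (ShortComplex.mk φ (cokernel.π φ) (cokernel.condition φ)).Exact := ShortComplex.exact_cokernel φ
    have hex := (ShortComplex.moduleCat_exact_iff _).1 (hS.map (DerSch.stalkFunctor X y))
    constructor
    · intro h hy
      have hb := (AVAmpleLib.genAt_unit_hom φ y).1 h
      refine hy ⟨fun s t => ?_⟩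
      have key : ∀ s, s = (0 : (DerSch.stalkFunctor X y).obj (cokernel φ)) := fun s => by
        obtain ⟨b, rfl⟩ := (ModuleCat.epi_iff_surjective _).mp
          (inferInstance : Epi ((DerSch.stalkFunctor X y).map (cokernel.π φ))) s
        obtain ⟨a, rfl⟩ := hb.2 b
        rw [← ModuleCat.comp_apply, ← Functor.map_comp, cokernel.condition, Functor.map_zero]
        rfl
      exact (key s).trans (key t).symm
    · intro hy
      refine IntMultLib.genAt_of_unitHom_surjective hP _ fun b => ?_
      rw [← SurfNumLib.eq_unitHom φ]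
      obtain ⟨a, ha⟩ := hex b (@Subsingleton.elim _ (not_not.mp hy) _ _)
      exact ⟨a, ha⟩
  haveI := isIntegral_ptIdeal c
  let W := (ptIdeal c).subscheme
  let g : W ⟶ X := (ptIdeal c).subschemeι
  letI : W.Over (Spec (CommRingCat.of k)) := ⟨g ≫ (X ↘ Spec (CommRingCat.of k))⟩
  haveI : IsProper (W ↘ Spec (CommRingCat.of k)) :=
    inferInstanceAs (IsProper (g ≫ (X ↘ Spec (CommRingCat.of k))))
  have hrfl : g ≫ (X ↘ Spec (CommRingCat.of k)) = W ↘ Spec (CommRingCat.of k) := rfl
  haveI := CurvLib.isNoetherian k (X := W)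
  have hW : topologicalKrullDim W = 1 := by
    have h := (g.isEmbedding.toHomeomorph.trans (Homeomorph.setCongr (range_ptIdeal c))).isHomeomorph.topologicalKrullDim_eq
    rw [h, hc, Nat.cast_one]
  have hPW := AmpleDevLib.isInvertible_pb g hP
  let τ := puSec g σ
  have hgeq : ∀ w : W, w ∈ genSet hPW τ ↔ g w ∈ genSet hP σ := fun w => by
    rw [AmpleDevLib.genSet_puSec g hP σ]
    rfl
  have hgen : g (genericPoint W) = c := by
    refine IsGenericPoint.eq ?_ (isGenericPoint_closure (x := c))
    have := (genericPoint_spec W).image g.continuous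
    rwa [Set.image_univ, range_ptIdeal, closure_closure] at this
  let ψ := QCohLib.unitHom (pb g P) τ
  have hτ1 : ψ.app ⊤ (1 : Γ(W, ⊤)) = τ := by
    refine (QCohLib.unitHom_app (pb g P) τ ⊤ 1).trans ?_
    rw [one_smul]
    exact QCohLib.toSections_top _ τ
  have hsurj : ∀ w : W, w ∈ genSet hPW τ ↔ Function.Bijective ((DerSch.stalkFunctor W w).map ψ).hom := fun w => by
    have h := AVAmpleLib.genAt_unit_hom ψ w
    rw [hτ1] at h
    exact h
  have hψ : ψ ≠ 0 := fun h0 => by
    have hτ0 : τ = 0 := by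
      rw [← hτ1, h0]
      rfl
    have hb : AmpleLib.GenAt (pb g P) τ (show genericPoint W ∈ (⊤ : W.Opens) from trivial) :=
      (hgeq _).2 (by rw [hgen]; exact (hiff c).2 hcn)
    rw [hτ0] at hb
    refine one_ne_zero (hb.1 (a₁ := (1 : W.presheaf.stalk (genericPoint W))) (a₂ := 0) ?_)
    simp only [map_zero, smul_zero]
  obtain ⟨hcoh, hdim⟩ := dim_cokernel_le k (n := 0) (by rw [hW]; simp) hPW hψ
  obtain ⟨w, hw⟩ : ∃ w : W, g w = x := by rw [← range_ptIdeal c] at hx; exact hx
  have hne : (CohB1.support (cokernel ψ)).Nonempty := by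
    refine ⟨w, fun hsub => ?_⟩
    have hS : (ShortComplex.mk ψ (cokernel.π ψ) (cokernel.condition ψ)).Exact := ShortComplex.exact_cokernel ψ
    have hex := (ShortComplex.moduleCat_exact_iff _).1 (hS.map (DerSch.stalkFunctor W w))
    have hg : w ∈ genSet hPW τ := IntMultLib.genAt_of_unitHom_surjective hPW _ fun b => by
      obtain ⟨a, ha⟩ := hex b (@Subsingleton.elim _ hsub _ _)
      exact ⟨a, ha⟩
    rw [hgeq, hw, hiff] at hg
    exact hg hxs
  have hpos := IntMultLib.euler_pos_of_dim_zero (k := k) hcoh (le_antisymm (by simpa using hdim) (by simpa using IntFunLib.nonneg_dim hne))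
  have hadd := CurvLib.euler_add_of_isCoh (k := k) (cokSeq_shortExact hPW hψ)
    (DevissLib.isCoh_structureModule W) (CurvLib.isCoh_of_isInvertible hPW) hcoh
  change Curv2.euler k W (pb g P) = Curv2.euler k W (Coh.structureModule W) + Curv2.euler k W (cokernel ψ) at hadd
  have h1 := euler_sub_eq_N (k := k) (pb g P)
  have h2 := N_push (k := k) hrfl (l := [P]) (by simpa using hP) (DevissLib.isCoh_structureModule W)
    ((topologicalKrullDim_subspace_le _ _).trans (by rw [hW]; simp))
  change N k [pb g P] (Coh.structureModule W) = N k [P] (Fpt c) at h2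
  omega

variable {A : X.Modules} (hA : PicF.IsInvertible A) {θ : A ⟶ Coh.structureModule X}

omit [X.Over (Spec (CommRingCat.of k))] [IsProper (X ↘ Spec (CommRingCat.of k))] in
theorem ne_zero_of_notMem {c : X} (hcn : c ∉ CohB1.support (cokernel θ)) : θ ≠ 0 := fun h0 => by
  refine hcn ?_
  rw [DevissLib.support_iso (cokernelIsoOfEq h0 ≪≫ cokernelZeroIsoTarget), IntMultLib.support_structureModule']
  trivial

include hA

omit [IsProper (X ↘ Spec (CommRingCat.of k))] in
theorem ses (hθ : θ ≠ 0) : (ShortComplex.mk θ (cokernel.π θ) (cokernel.condition θ)).ShortExact := by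
  haveI := CurvLib.mono_of_ne_zero hA CurvLib.isInvertible_structureModule hθ
  exact { exact := ShortComplex.exact_cokernel θ }

omit [IsProper (X ↘ Spec (CommRingCat.of k))] in
theorem exists_dual_section (hθ : θ ≠ 0) :
    ∃ φ : Coh.structureModule X ⟶ MiscFlat6.dual A, φ ≠ 0 ∧
      CohB1.support (cokernel φ) = CohB1.support (cokernel θ) := by
  have hL := MiscFlat6.dual_isInvertible hA
  obtain ⟨e⟩ := MiscFlat6.nonempty_dualIso hA
  let S := (ShortComplex.mk θ (cokernel.π θ) (cokernel.condition θ)).map (CurvLib.tensorLeft' (MiscFlat6.dual A))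
  have hS : S.ShortExact := HilbPolyLib.shortExact_tensor hL (ses hA hθ)
  let u : CohB1.tensorMod (MiscFlat6.dual A) (Coh.structureModule X) ≅ MiscFlat6.dual A := swapIso _ _ ≪≫ unitLeft _
  let e' : S.X₁ ≅ Coh.structureModule X := swapIso _ _ ≪≫ e
  let u' : S.X₂ ≅ MiscFlat6.dual A := u
  haveI := hS.mono_f
  refine ⟨e'.inv ≫ S.f ≫ u'.hom, fun h0 => ?_, ?_⟩
  · haveI : Mono (e'.inv ≫ S.f ≫ u'.hom) := inferInstance
    have hz : IsZero (Coh.structureModule X) := (IsZero.iff_id_eq_zero _).mpr
      ((cancel_mono (e'.inv ≫ S.f ≫ u'.hom)).mp (by rw [h0, comp_zero, comp_zero]))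
    have h1 := support_of_isZero hz
    rw [IntMultLib.support_structureModule'] at h1
    exact Set.not_nonempty_empty (h1 ▸ (⟨genericPoint X, trivial⟩ : (Set.univ : Set X).Nonempty))
  · have hc : cokernel S.f ≅ S.X₃ := (colimit.isColimit _).coconePointUniqueUpToIso hS.gIsCokernel
    rw [DevissLib.support_iso ((cokernel.mapIso S.f (e'.inv ≫ S.f ≫ u'.hom) e' u' (by simp)).symm ≪≫ hc)]
    exact HilbPolyLib.support_tensor hL (cokernel θ)

include k in
theorem coker_coh_dim {n : ℕ} (hX : topologicalKrullDim X = ((n + 1 : ℕ) : WithBot ℕ∞)) (hθ : θ ≠ 0) :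
    Coh.IsCoh (cokernel θ) ∧ topologicalKrullDim (CohB1.support (cokernel θ)) ≤ (n : ℕ) := by
  haveI := CurvLib.isNoetherian k (X := X)
  obtain ⟨φ, hφ, hs⟩ := exists_dual_section hA hθ
  refine ⟨QCohLib.isCoh_cokernel θ (CurvLib.isCoh_of_isInvertible hA).1 (DevissLib.isCoh_structureModule X), ?_⟩
  rw [← hs]
  exact (dim_cokernel_le k hX (MiscFlat6.dual_isInvertible hA) hφ).2

theorem nonpos_of_hom_curve {c : X} (hc : topologicalKrullDim (closure ({c} : Set X)) = ((1 : ℕ) : WithBot ℕ∞))
    (hcn : c ∉ CohB1.support (cokernel θ)) : N k [A] (Fpt c) ≤ 0 := by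
  haveI := CurvLib.isNoetherian k (X := X)
  obtain ⟨φ, hφ, hs⟩ := exists_dual_section hA (ne_zero_of_notMem hcn)
  obtain ⟨e⟩ := MiscFlat6.nonempty_dualIso hA
  have h := SurfNumLib.nonneg_of_section_curve (k := k) (MiscFlat6.dual_isInvertible hA) φ hc (hs ▸ hcn)
  rw [N_inv_head (l := []) hA (MiscFlat6.dual_isInvertible hA) e (by simp) (coh_Fpt k c)
    (by rw [supp_Fpt k, hc]; simp)] at h
  omega

theorem neg_of_hom_curve {c x : X} (hc : topologicalKrullDim (closure ({c} : Set X)) = ((1 : ℕ) : WithBot ℕ∞))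
    (hcn : c ∉ CohB1.support (cokernel θ)) (hx : x ∈ closure ({c} : Set X))
    (hxs : x ∈ CohB1.support (cokernel θ)) : N k [A] (Fpt c) < 0 := by
  haveI := CurvLib.isNoetherian k (X := X)
  obtain ⟨φ, hφ, hs⟩ := exists_dual_section hA (ne_zero_of_notMem hcn)
  obtain ⟨e⟩ := MiscFlat6.nonempty_dualIso hA
  have h := pos_of_section_curve (k := k) (MiscFlat6.dual_isInvertible hA) φ hc (hs ▸ hcn) hx (hs ▸ hxs)
  rw [N_inv_head (l := []) hA (MiscFlat6.dual_isInvertible hA) e (by simp) (coh_Fpt k c)
    (by rw [supp_Fpt k, hc]; simp)] at h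
  omega

/-- The square is minus the degree on the zero scheme. -/
theorem pr_self_eq (hX : topologicalKrullDim X = ((2 : ℕ) : WithBot ℕ∞)) (hθ : θ ≠ 0) :
    pr k A A = -N k [A] (cokernel θ) := by
  haveI := CurvLib.isNoetherian k (X := X)
  have h := N_add (k := k) (l := [A]) (by simpa using hA) (ses hA hθ) (CurvLib.isCoh_of_isInvertible hA)
    (DevissLib.isCoh_structureModule X) (coker_coh_dim (k := k) (n := 1) hA hX hθ).1
  change N k [A] (Coh.structureModule X) = N k [A] A + N k [A] (cokernel θ) at h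
  rw [pr, N_unit]
  omega

end SurfAmpleLib
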