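import Groth.Agent.SurfAmpleLib.Main
import Groth.Agent.SurfNumLib.CastSev
import Groth.Agent.SurfNumLib.Config
import Groth.Agent.GenusZeroLib.PointIdeal
import Groth.Agent.UOpenLib.DimOne
import Groth.Agent.WeilExtLib.Smooth
import Groth.Agent.S2122
import Groth.Agent.CubeLib.Glue

/-!
# Fibres of a fibration of a surface over a curve
-/

set_option autoImplicit false
set_option linter.style.haveILetI false
set_option maxHeartbeats 1000000
universe u

open CategoryTheory CategoryTheory.Limits AlgebraicGeometry TopologicalSpace Opposite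
open HilbPolyLib DevissLib IntMultLib IntFunLib HodgeIdxLib PicH1Lib
open KFlatLib (pb puSec)

noncomputable section

namespace SurfAmpleLib

variable {k : Type u} [Field k] {S B : Scheme.{u}} [S.Over (Spec (CommRingCat.of k))]
  [IsProper (S ↘ Spec (CommRingCat.of k))] [IsIntegral S] [B.Over (Spec (CommRingCat.of k))]
  [IsProper (B ↘ Spec (CommRingCat.of k))] [IsIntegral B]

variable (k) in
include k in
/-- A surjection of an integral scheme onto a smooth curve is flat. -/
theorem flat_fibration [Smooth (B ↘ Spec (CommRingCat.of k))] (hB : topologicalKrullDim B = 1) (f : S ⟶ B)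
    [Surjective f] : Flat f := by
  haveI := CurvLib.isNoetherian k (X := B)
  refine UOpenLib.flat_of_dominant_regular_dim_one f
    (fun y => ⟨WeilExtLib.isRegular_stalk_smooth (B ↘ Spec (CommRingCat.of k)) y, ?_⟩) f.surjective.denseRange
  haveI := CurveAmpLib.krullDimLE_stalk hB.le y
  exact Ring.krullDimLE_iff.mp inferInstance

omit [IsIntegral S] [S.Over (Spec (CommRingCat.of k))] [IsProper (S ↘ Spec (CommRingCat.of k))] in
/-- The ideal of a closed fibre. -/
theorem ker_fiberι_eq (f : S ⟶ B) {p : B} (hp : IsClosed ({p} : Set B)) :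
    (f.fiberι p).ker = (GenusZeroLib.ptIdeal hp).comap f := by
  haveI : IsClosedImmersion (B.fromSpecResidueField p) :=
    .of_isPreimmersion _ (by rw [Scheme.range_fromSpecResidueField]; exact hp)
  have h : (B.fromSpecResidueField p).ker = GenusZeroLib.ptIdeal hp := by
    rw [AlgSpRegLib.ker_eq_vanishingIdeal]
    congr 1
    refine Closeds.ext ?_
    rw [Closeds.coe_closure, Scheme.range_fromSpecResidueField, hp.closure_eq]
    rfl
  rw [← h]
  exact Scheme.IdealSheafData.ker_fst_of_isClosedImmersion (B.fromSpecResidueField p) f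

variable (k) in
include k in
theorem isInvertible_ptIdeal [Smooth (B ↘ Spec (CommRingCat.of k))] (hB : topologicalKrullDim B = 1) {p : B}
    (hp : IsClosed ({p} : Set B)) : PicF.IsInvertible (ClSub.idealMod (GenusZeroLib.ptIdeal hp)) := by
  haveI := HurwitzLib.dvr_stalk_closed (k := k) hB hp
  obtain ⟨I, ⟨e⟩, hI, -⟩ := GenusZeroLib.exists_idealMod_iso (k := k) hp hB
  exact HilbPolyLib.isInvertible_of_iso e hI

variable (k) in
include k in
/-- The ideal module of a closed fibre is pulled back from the curve. -/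
theorem nonempty_fibreIdeal_iso [Smooth (B ↘ Spec (CommRingCat.of k))] (hB : topologicalKrullDim B = 1)
    (f : S ⟶ B) [Surjective f] {p : B} (hp : IsClosed ({p} : Set B)) :
    Nonempty (ClSub.idealMod (f.fiberι p).ker ≅ pb f (ClSub.idealMod (GenusZeroLib.ptIdeal hp))) := by
  haveI := flat_fibration k hB f
  haveI := SurfNumLib.isIso_toComap_flat f (GenusZeroLib.ptIdeal hp)
  exact ⟨eqToIso (by rw [ker_fiberι_eq f hp]) ≪≫ (asIso (toComap f (GenusZeroLib.ptIdeal hp))).symm⟩

variable (k) in
include k in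
theorem isEffCartier_fibre [Smooth (B ↘ Spec (CommRingCat.of k))] (hB : topologicalKrullDim B = 1)
    (f : S ⟶ B) [Surjective f] {p : B} (hp : IsClosed ({p} : Set B)) :
    BlowUp.IsEffCartierIdeal (f.fiberι p).ker := by
  obtain ⟨e⟩ := nonempty_fibreIdeal_iso k hB f hp
  exact IntMultLib.isEffCartier_of_isInvertible _
    (HilbPolyLib.isInvertible_of_iso e.symm (AmpleDevLib.isInvertible_pb f (isInvertible_ptIdeal k hB hp)))

omit [IsProper (B ↘ Spec (CommRingCat.of k))] [B.Over (Spec (CommRingCat.of k))] [IsIntegral B] in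
/-- Modules from the base have degree zero on contracted curves. -/
theorem N_pb_vertical (f : S ⟶ B) {M : B.Modules} (hM : PicF.IsInvertible M) {c : S}
    (hc : topologicalKrullDim (closure ({c} : Set S)) = ((1 : ℕ) : WithBot ℕ∞)) {q : B}
    (hq : ∀ x ∈ closure ({c} : Set S), f.base x = q) : N k [pb f M] (Fpt c) = 0 := by
  haveI := CurvLib.isNoetherian k (X := S)
  haveI := isIntegral_ptIdeal c
  let W := (ptIdeal c).subscheme
  let g : W ⟶ S := (ptIdeal c).subschemeι
  letI : W.Over (Spec (CommRingCat.of k)) := ⟨g ≫ (S ↘ Spec (CommRingCat.of k))⟩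
  haveI : IsProper (W ↘ Spec (CommRingCat.of k)) :=
    inferInstanceAs (IsProper (g ≫ (S ↘ Spec (CommRingCat.of k))))
  obtain ⟨V, e, hqV, he⟩ := TwistLib.exists_genOn hM q
  let τ : Γ(pb V.ι M, ⊤) := KFlatLib.puSecLE V.ι M (show (⊤ : V.toScheme.Opens) ≤ V.ι ⁻¹ᵁ V from fun x _ => x.2) e
  haveI := AmpleLib.isIso_unitHom (M := pb V.ι M) τ (CubeLib.genOn_puSecLE V.ι he (show (⊤ : V.toScheme.Opens) ≤ V.ι ⁻¹ᵁ V from fun x _ => x.2))
  have hsub : Set.range (g ≫ f) ⊆ Set.range V.ι := by
    rintro _ ⟨w, rfl⟩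
    rw [Scheme.Opens.range_ι]
    have hw : g w ∈ closure ({c} : Set S) := (range_ptIdeal c).le ⟨w, rfl⟩
    change f.base (g w) ∈ V
    rw [hq _ hw]
    exact hqV
  let h : W ⟶ V := IsOpenImmersion.lift V.ι (g ≫ f) hsub
  have hh : h ≫ V.ι = g ≫ f := IsOpenImmersion.lift_fac _ _ _
  let eW : pb g (pb f M) ≅ Coh.structureModule W :=
    (Scheme.Modules.pullbackComp g f).app M ≪≫ (Scheme.Modules.pullbackCongr hh.symm).app M ≪≫
      ((Scheme.Modules.pullbackComp h V.ι).app M).symm ≪≫
      (Scheme.Modules.pullback h).mapIso (asIso (QCohLib.unitHom (pb V.ι M) τ)).symm ≪≫ KFlatLib.pullUnitIso h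
  have hW : topologicalKrullDim W ≤ ((1 : ℕ) : WithBot ℕ∞) := by
    rw [← hc]
    exact le_of_eq (g.isEmbedding.toHomeomorph.trans
      (Homeomorph.setCongr (range_ptIdeal c))).isHomeomorph.topologicalKrullDim_eq
  have h2 := N_push (k := k) (g := g) rfl (l := [pb f M]) (by simpa using AmpleDevLib.isInvertible_pb f hM)
    (DevissLib.isCoh_structureModule W) ((topologicalKrullDim_subspace_le _ _).trans (by simpa using hW))
  change N k [pb g (pb f M)] (Coh.structureModule W) = N k [pb f M] (Fpt c) at h2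
  rw [← h2, ← euler_sub_eq_N, CurvLib.euler_congr eW, sub_self]

/-- The inverse of the ideal of a fibre is nonnegative on curves, and zero on contracted ones. -/
theorem N_fibre_nonneg [Smooth (B ↘ Spec (CommRingCat.of k))] (hB : topologicalKrullDim B = 1)
    (f : S ⟶ B) [Surjective f] {p : B} (hp : IsClosed ({p} : Set B)) {LF : S.Modules}
    (hLF : ClSub.IsInverseOf LF (ClSub.idealMod (f.fiberι p).ker)) {c : S}
    (hc : topologicalKrullDim (closure ({c} : Set S)) = ((1 : ℕ) : WithBot ℕ∞)) :
    0 ≤ N k [LF] (Fpt c) ∧ ((∀ x ∈ closure ({c} : Set S), f.base x = f.base c) → N k [LF] (Fpt c) = 0) := by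
  haveI := CurvLib.isNoetherian k (X := S)
  haveI := isIntegral_ptIdeal c
  have hJ := isEffCartier_fibre k hB f hp
  have hI := IntMultLib.isInvertible_idealMod _ hJ
  obtain ⟨e⟩ := hLF
  have hLFi : PicF.IsInvertible LF := Groth.Agent.S2122.result LF _ e
  have hd : topologicalKrullDim ((ptIdeal c).support : Set S) = 1 := by rw [IntFunLib.dim_ptIdeal, hc, Nat.cast_one]
  have hneg : N k [LF] (Fpt c) = - N k [ClSub.idealMod (f.fiberι p).ker] (Fpt c) := by
    have h := N_inv_head (k := k) (l := []) hLFi hI e (by simp) (CurvLib.isCoh_quotMod (ptIdeal c))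
      (by rw [SurfNumLib.support_quotMod_eq, hd]; simp)
    change N k [ClSub.idealMod (f.fiberι p).ker] (Fpt c) = - N k [LF] (Fpt c) at h
    omega
  have hvert : (∀ x ∈ closure ({c} : Set S), f.base x = f.base c) → N k [LF] (Fpt c) = 0 := fun hq => by
    obtain ⟨eF⟩ := nonempty_fibreIdeal_iso k hB f hp
    rw [hneg, N_congr_head eF, N_pb_vertical f (isInvertible_ptIdeal k hB hp) hc hq, neg_zero]
  refine ⟨?_, hvert⟩
  by_cases hsub : ((ptIdeal c).support : Set S) ⊆ ((f.fiberι p).ker.support : Set S)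
  · refine (hvert fun x hx => ?_).ge
    have hmem : ∀ z ∈ closure ({c} : Set S), f.base z = p := fun z hz => by
      have h1 := hsub (by rwa [Scheme.IdealSheafData.coe_support_vanishingIdeal] : z ∈ _)
      rw [ker_fiberι_eq f hp, Scheme.IdealSheafData.support_comap] at h1
      change f.base z ∈ ((GenusZeroLib.ptIdeal hp).support : Set B) at h1
      rwa [Scheme.IdealSheafData.coe_support_vanishingIdeal] at h1
    rw [hmem x hx, hmem c (subset_closure rfl)]
  · rw [hneg]
    linarith [SurfNumLib.N_effCartier_nonpos (k := k) hJ (ptIdeal c) hd hsub]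

end SurfAmpleLib
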