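import Groth.Agent.SurfAmpleLib.Divide
import Groth.Agent.SurfAmpleLib.Prod
import Groth.Agent.SurfNumLib.Proper
import Groth.Agent.SurfNumLib.Basic
import Groth.Agent.SurfNumLib.Eff
import Groth.Agent.IntFunLib.Kleiman
import Groth.Agent.SurfAmpleLib.Main

/-!
# Rational combinations which are nef
-/

set_option autoImplicit false
set_option linter.style.haveILetI false
set_option maxHeartbeats 1000000
universe u

open CategoryTheory CategoryTheory.Limits AlgebraicGeometry TopologicalSpace Opposite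
open HilbPolyLib DevissLib IntMultLib IntFunLib HodgeIdxLib

noncomputable section

namespace SurfAmpleLib

variable {k : Type u} [Field k] {X : Scheme.{u}} [X.Over (Spec (CommRingCat.of k))]
  [IsProper (X ↘ Spec (CommRingCat.of k))]

/-- A combination nonnegative on curves is nonnegative on coherent modules of dimension at most one. -/
theorem lin_N_nonneg {ι : Type*} [Fintype ι] {T : ι → X.Modules} (hT : ∀ j, PicF.IsInvertible (T j))
    (c : ι → ℚ)
    (hc : ∀ x : X, topologicalKrullDim (closure ({x} : Set X)) = ((1 : ℕ) : WithBot ℕ∞) →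
      0 ≤ ∑ j, c j * (N k [T j] (Fpt x) : ℚ))
    {F : X.Modules} (hF : Coh.IsCoh F) (hd : topologicalKrullDim (CohB1.support F) ≤ ((1 : ℕ) : WithBot ℕ∞)) :
    0 ≤ ∑ j, c j * (N k [T j] F : ℚ) := by
  classical
  haveI := CurvLib.isNoetherian k (X := X)
  rcases (CohB1.support F).eq_empty_or_nonempty with he | hne
  · refine le_of_eq (Finset.sum_eq_zero fun j _ => ?_).symm
    rw [IntFunLib.N_low (by simpa using hT j) hF (by
      rw [he]
      haveI : IsEmpty (IrreducibleCloseds ↥(∅ : Set X)) := ⟨fun c => by obtain ⟨x, -⟩ := c.isIrreducible.nonempty; exact x.2⟩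
      rw [show topologicalKrullDim ↥(∅ : Set X) = ⊥ from Order.krullDim_eq_bot]
      exact WithBot.bot_lt_coe _)]
    simp
  let pts : Finset X := (IntMultLib.finite_dim_points (Y := CohB1.support F) (QCohLib.isClosed_support _ hF.2) (d := 1) hd).toFinset
  have hkey : ∀ j, N k [T j] F = ∑ x ∈ pts, (IntMultLib.len F x).toNat • N k [T j] (Fpt x) := fun j => by
    obtain ⟨S, hS, -, hsum⟩ := N_sum (k := k) (l := [T j]) (by simpa using hT j) hF hne hd
    rw [hsum]
    refine Finset.sum_congr (Finset.ext fun x => ?_) fun _ _ => rfl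
    rw [hS x, Set.Finite.mem_toFinset]
    rfl
  simp only [hkey, Int.cast_sum, Finset.mul_sum]
  rw [Finset.sum_comm]
  refine Finset.sum_nonneg fun x hx => ?_
  have h := hc x (((IntMultLib.finite_dim_points (Y := CohB1.support F) (QCohLib.isClosed_support _ hF.2) (d := 1) hd).mem_toFinset.mp hx).2)
  have he : ∑ j, c j * (((IntMultLib.len F x).toNat • N k [T j] (Fpt x) : ℤ) : ℚ) =
      ((IntMultLib.len F x).toNat : ℚ) * ∑ j, c j * (N k [T j] (Fpt x) : ℚ) := by
    rw [Finset.mul_sum]
    refine Finset.sum_congr rfl fun j _ => ?_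
    push_cast [nsmul_eq_mul]
    ring
  rw [he]
  exact mul_nonneg (Nat.cast_nonneg _) h

variable [IsIntegral X]

/-- A combination nonnegative on curves meets the ideals of effective divisors nonpositively. -/
theorem lin_pr_nonpos (hX : topologicalKrullDim X = ((2 : ℕ) : WithBot ℕ∞)) {ι : Type*} [Fintype ι]
    {T : ι → X.Modules} (hT : ∀ j, PicF.IsInvertible (T j)) (c : ι → ℚ)
    (hc : ∀ x : X, topologicalKrullDim (closure ({x} : Set X)) = ((1 : ℕ) : WithBot ℕ∞) →
      0 ≤ ∑ j, c j * (N k [T j] (Fpt x) : ℚ))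
    {R : X.IdealSheafData} (hR : BlowUp.IsEffCartierIdeal R) :
    ∑ j, c j * (pr k (ClSub.idealMod R) (T j) : ℚ) ≤ 0 := by
  haveI := CurvLib.isNoetherian k (X := X)
  have hd : topologicalKrullDim (CohB1.support (ClSub.quotMod R)) ≤ ((1 : ℕ) : WithBot ℕ∞) := by
    rw [SurfNumLib.support_quotMod_eq]
    refine dim_closed_le hX R.support.isClosed fun h => ?_
    refine SurfNumLib.effCartier_ne_bot hR (Scheme.IdealSheafData.support_eq_top_iff.mp ?_)
    exact top_le_iff.mp fun x _ => closure_minimal (Set.singleton_subset_iff.mpr h) R.support.isClosed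
      (by rw [(genericPoint_spec X).def]; trivial)
  have h := lin_N_nonneg hT c hc (CurvLib.isCoh_quotMod R) hd
  simp only [fun j => SurfNumLib.pr_ideal (k := k) R (CurvLib.isCoh_of_isInvertible (IntMultLib.isInvertible_idealMod R hR)) (hT j),
    Int.cast_neg, mul_neg, Finset.sum_neg_distrib]
  linarith

/-- A telescoping sum over `Fin`. -/
theorem sum_succ_sub {M : Type*} [AddCommGroup M] {n : ℕ} (f : Fin (n + 1) → M) :
    ∑ i : Fin n, (f i.succ - f i.castSucc) = f (Fin.last n) - f 0 := by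
  rw [Finset.sum_sub_distrib]
  have h1 := Fin.sum_univ_succ f
  have h2 := Fin.sum_univ_castSucc f
  rw [h1] at h2
  have h3 : ∑ i : Fin n, f i.succ = (∑ i : Fin n, f i.castSucc) + f (Fin.last n) - f 0 := by
    rw [← h2]; abel
  rw [h3]; abel

/-- The square of a nef rational combination `P - μ F` is nonnegative. -/
theorem sq_nef_nonneg (hX : topologicalKrullDim X = ((2 : ℕ) : WithBot ℕ∞)) {P F F' : X.Modules}
    (hP : PicF.IsInvertible P) (hF : PicF.IsInvertible F) (hF' : PicF.IsInvertible F')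
    (e : CohB1.tensorMod F F' ≅ Coh.structureModule X) (μ : ℚ) (hμ : 0 ≤ μ)
    (hnef : ∀ x : X, topologicalKrullDim (closure ({x} : Set X)) = ((1 : ℕ) : WithBot ℕ∞) →
      0 ≤ (N k [P] (Fpt x) : ℚ) - μ * (N k [F] (Fpt x) : ℚ)) :
    0 ≤ (pr k P P : ℚ) - 2 * μ * (pr k P F : ℚ) + μ ^ 2 * (pr k F F : ℚ) := by
  haveI := CurvLib.isNoetherian k (X := X)
  let q := μ.den
  let p := μ.num.toNat
  have hq : (0 : ℚ) < q := by exact_mod_cast μ.den_pos
  have hp : (p : ℚ) = μ * q := by
    have h1 : (p : ℤ) = μ.num := Int.toNat_of_nonneg (Rat.num_nonneg.mpr hμ)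
    have h2 : (p : ℚ) = (μ.num : ℚ) := by exact_mod_cast h1
    rw [h2]
    exact (Rat.mul_den_eq_num μ).symm
  have hPq := AmpleThLib.tensorPow_isInvertible hP q
  have hFp := AmpleThLib.tensorPow_isInvertible hF' p
  let A := CohB1.tensorMod (CohB1.tensorPow P q) (CohB1.tensorPow F' p)
  have hA : PicF.IsInvertible A := HilbPolyLib.isInvertible_tensor hPq hFp
  have hNA : ∀ x : X, topologicalKrullDim (closure ({x} : Set X)) = ((1 : ℕ) : WithBot ℕ∞) →
      N k [A] (Fpt x) = q * N k [P] (Fpt x) - p * N k [F] (Fpt x) := fun x hx => by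
    have hd : topologicalKrullDim (CohB1.support (Fpt x)) ≤ ((([] : List X.Modules).length + 1 : ℕ) : WithBot ℕ∞) := by
      rw [SurfNumLib.support_quotMod_eq, IntFunLib.dim_ptIdeal, hx]; simp
    rw [N_tensor (k := k) (l := []) (by simp) hPq hFp (CurvLib.isCoh_quotMod _) hd,
      IntFunLib.N_pow (k := k) (l := []) (by simp) hP (CurvLib.isCoh_quotMod _) hd,
      IntFunLib.N_pow (k := k) (l := []) (by simp) hF' (CurvLib.isCoh_quotMod _) hd,
      N_inv_head (k := k) (l := []) hF' hF (swapIso F' F ≪≫ e) (by simp) (CurvLib.isCoh_quotMod _) hd]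
    ring
  have hAn : IntFunLib.Nef k A := fun x hx => by
    have h := mul_nonneg hq.le (hnef x hx)
    have h2 : (0 : ℚ) ≤ (N k [A] (Fpt x) : ℚ) := by
      rw [hNA x hx]
      push_cast
      rw [hp]
      linarith
    exact_mod_cast h2
  have hK := IntFunLib.N_nef_nonneg (k := k) hA hAn (d := 2) (η := genericPoint X) (SurfNumLib.dim_generic hX)
  rw [show List.replicate 2 A = [A, A] from rfl, ← SurfNumLib.pr_eq_Fpt hX hA hA] at hK
  have hpr : ∀ T : X.Modules, PicF.IsInvertible T → pr k A T = q * pr k P T - p * pr k F T := fun T hT => by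
    have hd : topologicalKrullDim (CohB1.support (Coh.structureModule X)) ≤ ((([T] : List X.Modules).length + 1 : ℕ) : WithBot ℕ∞) :=
      (topologicalKrullDim_subspace_le _ _).trans hX.le
    have h1 : pr k (CohB1.tensorPow P q) T = q * pr k P T :=
      IntFunLib.N_pow (k := k) (l := [T]) (by simpa using hT) hP (DevissLib.isCoh_structureModule X) hd q
    have h2 : pr k (CohB1.tensorPow F' p) T = p * pr k F' T :=
      IntFunLib.N_pow (k := k) (l := [T]) (by simpa using hT) hF' (DevissLib.isCoh_structureModule X) hd p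
    rw [pr_tensor hX.le hPq hFp hT, h1, h2, pr_inverse hX.le hF hF' hT e]
    ring
  rw [hpr A hA, pr_comm P A, pr_comm F A, hpr P hP, hpr F hF, pr_comm F P] at hK
  have hK' : (0 : ℚ) ≤ (q : ℚ) * ((q : ℚ) * pr k P P - (p : ℚ) * pr k P F) -
      (p : ℚ) * ((q : ℚ) * pr k P F - (p : ℚ) * pr k F F) := by exact_mod_cast hK
  rw [hp] at hK'
  have h3 : (0 : ℚ) ≤ (q : ℚ) ^ 2 * ((pr k P P : ℚ) - 2 * μ * pr k P F + μ ^ 2 * pr k F F) := by
    nlinarith [hK']
  exact (mul_nonneg_iff_of_pos_left (pow_pos hq 2)).mp h3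

end SurfAmpleLib
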