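import Groth.Agent.SurfAmpleLib.QuotSeq
import Groth.Agent.SurfAmpleLib.CurveH0
import Groth.Agent.SurfAmpleLib.Divide
import Groth.Agent.SurfAmpleLib.Projective

/-!
# Numerically connected divisors
-/

set_option autoImplicit false
set_option linter.style.haveILetI false
set_option maxHeartbeats 1000000
universe u

open CategoryTheory CategoryTheory.Limits AlgebraicGeometry TopologicalSpace Opposite
open HilbPolyLib DevissLib IntMultLib IntFunLib HodgeIdxLib

noncomputable section

namespace SurfAmpleLib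

variable {k : Type u} [Field k] {X : Scheme.{u}} [X.Over (Spec (CommRingCat.of k))]
  [IsProper (X ↘ Spec (CommRingCat.of k))] [IsIntegral X]

omit [X.Over (Spec (CommRingCat.of k))] [IsProper (X ↘ Spec (CommRingCat.of k))] [IsIntegral X] in
theorem mul_le_left' (I J : X.IdealSheafData) : I * J ≤ I := fun U => by
  rw [Scheme.IdealSheafData.ideal_mul, Pi.mul_apply]
  exact Ideal.mul_le_left (I := I.ideal U) (J := J.ideal U)

omit [X.Over (Spec (CommRingCat.of k))] [IsProper (X ↘ Spec (CommRingCat.of k))] [IsIntegral X] in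
theorem le_ptIdeal {J : X.IdealSheafData} {c : X} (hc : c ∈ J.support) : J ≤ ptIdeal c :=
  Scheme.IdealSheafData.le_support_iff_le_vanishingIdeal.1
    (fun _ hx => closure_minimal (Set.singleton_subset_iff.mpr hc) J.support.isClosed hx)

/-- A curve of negative degree in a divisor. -/
theorem exists_curve_neg (hX : topologicalKrullDim X = ((2 : ℕ) : WithBot ℕ∞)) {R : X.IdealSheafData}
    (hR : BlowUp.IsEffCartierIdeal R) {A : X.Modules} (hA : PicF.IsInvertible A)
    (hpos : 0 < pr k (ClSub.idealMod R) A) :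
    ∃ c : X, topologicalKrullDim (closure ({c} : Set X)) = ((1 : ℕ) : WithBot ℕ∞) ∧ c ∈ R.support ∧
      N k [A] (Fpt c) < 0 := by
  haveI := CurvLib.isNoetherian k (X := X)
  have hI := IntMultLib.isInvertible_idealMod R hR
  rw [SurfNumLib.pr_ideal R (CurvLib.isCoh_of_isInvertible hI) hA] at hpos
  have hsupp : topologicalKrullDim (CohB1.support (ClSub.quotMod R)) ≤ (([A].length : ℕ) : WithBot ℕ∞) := by
    rw [SurfNumLib.support_quotMod_eq]
    refine dim_closed_le hX R.support.isClosed fun h => ?_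
    refine SurfNumLib.effCartier_ne_bot hR (Scheme.IdealSheafData.support_eq_top_iff.mp ?_)
    refine top_le_iff.mp fun x _ => ?_
    exact closure_minimal (Set.singleton_subset_iff.mpr h) R.support.isClosed
      (by rw [(genericPoint_spec X).def]; trivial)
  rcases (CohB1.support (ClSub.quotMod R)).eq_empty_or_nonempty with he | hne
  · exfalso
    rw [IntFunLib.N_low (by simpa using hA) (CurvLib.isCoh_quotMod R) (by
      rw [he]
      haveI : IsEmpty (IrreducibleCloseds ↥(∅ : Set X)) := ⟨fun c => by obtain ⟨x, -⟩ := c.isIrreducible.nonempty; exact x.2⟩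
      rw [show topologicalKrullDim ↥(∅ : Set X) = ⊥ from Order.krullDim_eq_bot]
      exact WithBot.bot_lt_coe _)] at hpos
    simp at hpos
  obtain ⟨T, hT, -, hsum⟩ := N_sum (k := k) (l := [A]) (by simpa using hA) (CurvLib.isCoh_quotMod R) hne hsupp
  rw [hsum] at hpos
  by_contra hno
  push Not at hno
  refine (neg_pos.mp hpos).not_ge (Finset.sum_nonneg fun c hc => smul_nonneg (Nat.zero_le _) ?_)
  refine hno c (by simpa using ((hT c).mp hc).2) ?_
  have := ((hT c).mp hc).1
  rwa [SurfNumLib.support_quotMod_eq] at this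

variable [IsAlgClosed k] [Smooth (X ↘ Spec (CommRingCat.of k))]

/-- A module of nonpositive degree on the components of a numerically connected divisor has at most one section. -/
theorem h0_le_one_of_grow (hX : topologicalKrullDim X = ((2 : ℕ) : WithBot ℕ∞)) {Z : X.IdealSheafData}
    (hZ : BlowUp.IsEffCartierIdeal Z) (hne : Z ≠ ⊤)
    (hgrow : ∀ Y R : X.IdealSheafData, BlowUp.IsEffCartierIdeal Y → BlowUp.IsEffCartierIdeal R → Y ≠ ⊤ → R ≠ ⊤ →
      Z = Y * R → ∃ c : X, topologicalKrullDim (closure ({c} : Set X)) = ((1 : ℕ) : WithBot ℕ∞) ∧ c ∈ R.support ∧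
        N k [ClSub.idealMod Y] (Fpt c) < 0)
    {L : X.Modules} (hL : PicF.IsInvertible L)
    (hdeg : ∀ c : X, topologicalKrullDim (closure ({c} : Set X)) = ((1 : ℕ) : WithBot ℕ∞) → Z ≤ ptIdeal c →
      N k [L] (Fpt c) ≤ 0) :
    hh k (CohB1.tensorMod L (ClSub.quotMod Z)) 0 ≤ 1 := by
  haveI := CurvLib.isNoetherian k (X := X)
  obtain ⟨H, hH⟩ := exists_ample_of_smooth k hX
  have hcart : ∀ c : X, topologicalKrullDim (closure ({c} : Set X)) = ((1 : ℕ) : WithBot ℕ∞) →
      BlowUp.IsEffCartierIdeal (ptIdeal c) := fun c hc => by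
    haveI := isIntegral_ptIdeal c
    exact SurfNumLib.isEffCartier_curve k hX (WeilExtLib.isRegular_stalk_smooth (X ↘ Spec (CommRingCat.of k))) _
      (by rw [IntFunLib.dim_ptIdeal, hc, Nat.cast_one])
  have hneT : ∀ c : X, ptIdeal c ≠ ⊤ := fun c h => by
    have : c ∈ ((ptIdeal c).support : Set X) := by
      rw [Scheme.IdealSheafData.coe_support_vanishingIdeal]; exact subset_closure rfl
    rw [h, Scheme.IdealSheafData.support_top] at this
    exact this
  -- the first curve
  obtain ⟨c₀, hc₀, hc₀Z, -⟩ := exists_curve_neg (k := k) hX hZ (A := MiscFlat6.dual H) (MiscFlat6.dual_isInvertible hH.1) (by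
    obtain ⟨e⟩ := MiscFlat6.nonempty_dualIso hH.1
    rw [pr_comm, pr_inverse hX.le hH.1 (MiscFlat6.dual_isInvertible hH.1) (IntMultLib.isInvertible_idealMod Z hZ) e,
      pr_comm]
    have := SurfNumLib.pr_effCartier_pos (k := k) hX hZ hne hH
    omega)
  obtain ⟨R₀, hR₀, hR₀e⟩ := exists_eq_mul hZ (hcart c₀ hc₀) (le_ptIdeal hc₀Z)
  have hstart : hh k (CohB1.tensorMod L (ClSub.quotMod (ptIdeal c₀))) 0 ≤ 1 := by
    haveI := isIntegral_ptIdeal c₀
    exact (h0_quot_bound hL _ (by rw [IntFunLib.dim_ptIdeal, hc₀, Nat.cast_one]) (hdeg c₀ hc₀ (le_ptIdeal hc₀Z))).1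
  suffices key : ∀ (d : ℕ) (Y R : X.IdealSheafData), BlowUp.IsEffCartierIdeal Y → BlowUp.IsEffCartierIdeal R →
      Y ≠ ⊤ → Z = Y * R → (-pr k (ClSub.idealMod R) H).toNat = d →
      hh k (CohB1.tensorMod L (ClSub.quotMod Y)) 0 ≤ 1 → hh k (CohB1.tensorMod L (ClSub.quotMod Z)) 0 ≤ 1 from
    key _ (ptIdeal c₀) R₀ (hcart c₀ hc₀) hR₀ (hneT c₀) hR₀e.symm rfl hstart
  intro d
  induction d using Nat.strong_induction_on with
  | _ d ih =>
    intro Y R hY hR hYne hZYR hd hh0
    rcases eq_or_ne R ⊤ with rfl | hRne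
    · have : Z = Y := by
        rw [hZYR]
        exact mul_one Y
      rwa [this]
    have hIY := IntMultLib.isInvertible_idealMod Y hY
    obtain ⟨c, hc, hcR, hcneg⟩ := hgrow Y R hY hR hYne hRne hZYR
    obtain ⟨R', hR', hR'e⟩ := exists_eq_mul hR (hcart c hc) (le_ptIdeal hcR)
    have hYC := AlgSpRegLib.isEffCartier_mul hY (hcart c hc)
    have hZe : Z = (Y * ptIdeal c) * R' := by rw [hZYR, ← hR'e, mul_assoc]
    have hZc : Z ≤ ptIdeal c := by
      rw [hZe, mul_comm Y, mul_assoc]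
      exact mul_le_left' _ _
    have hlt : (-pr k (ClSub.idealMod R') H).toNat < d := by
      have h1 := N_mul (k := k) (hcart c hc) hR' (l := [H]) (by simpa using hH.1) (DevissLib.isCoh_structureModule X)
        ((topologicalKrullDim_subspace_le _ _).trans hX.le)
      rw [hR'e] at h1
      change pr k (ClSub.idealMod R) H = pr k (ClSub.idealMod (ptIdeal c)) H + pr k (ClSub.idealMod R') H at h1
      have h2 := SurfNumLib.pr_effCartier_pos (k := k) hX (hcart c hc) (hneT c) hH
      have h3 : pr k (ClSub.idealMod R') H ≤ 0 := by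
        rcases eq_or_ne R' ⊤ with rfl | h
        · have h4 := N_one (k := k) (X := X) (l := [H]) (by simpa using hH.1) (DevissLib.isCoh_structureModule X)
            ((topologicalKrullDim_subspace_le _ _).trans hX.le)
          exact h4.le
        · exact (SurfNumLib.pr_effCartier_pos (k := k) hX hR' h hH).le
      omega
    refine ih _ hlt _ R' hYC hR' (fun h => hYne (top_le_iff.mp (h ▸ mul_le_left' Y (ptIdeal c)))) hZe rfl ?_
    obtain ⟨S, hS, ⟨e₁⟩, ⟨e₂⟩, ⟨e₃⟩⟩ := exists_quotSeq hY (hcart c hc)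
    have hT := HilbPolyLib.shortExact_tensor hL hS
    have hQ : Coh.IsCoh (CohB1.tensorMod (ClSub.idealMod Y) (ClSub.quotMod (ptIdeal c))) :=
      HilbPolyLib.isCoh_tensor hIY (CurvLib.isCoh_quotMod _)
    have f₁ := congrRight L e₁ ≪≫ (assocIso L (ClSub.idealMod Y) (ClSub.quotMod (ptIdeal c))).symm
    have hLY := HilbPolyLib.isInvertible_tensor hL hIY
    have hle := hh_le_mid (k := k) hT
      (HilbPolyLib.isCoh_tensor hL (QCohLib.isCoh_of_iso e₁.symm hQ))
      (HilbPolyLib.isCoh_tensor hL (QCohLib.isCoh_of_iso e₂.symm (CurvLib.isCoh_quotMod _)))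
      (HilbPolyLib.isCoh_tensor hL (QCohLib.isCoh_of_iso e₃.symm (CurvLib.isCoh_quotMod _))) 0
    change hh k (CohB1.tensorMod L S.X₂) 0 ≤ hh k (CohB1.tensorMod L S.X₁) 0 + hh k (CohB1.tensorMod L S.X₃) 0 at hle
    rw [hh_congr (k := k) (congrRight L e₂) 0, hh_congr (k := k) f₁ 0, hh_congr (k := k) (congrRight L e₃) 0] at hle
    haveI := isIntegral_ptIdeal c
    have hdc : topologicalKrullDim ((ptIdeal c).support : Set X) = 1 := by
      rw [IntFunLib.dim_ptIdeal, hc, Nat.cast_one]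
    have hneg : N k [CohB1.tensorMod L (ClSub.idealMod Y)] (ClSub.quotMod (ptIdeal c)) < 0 := by
      rw [N_tensor (k := k) (l := []) (by simp) hL hIY (CurvLib.isCoh_quotMod _)
        (by rw [SurfNumLib.support_quotMod_eq, hdc]; simp)]
      have h5 := hdeg c hc hZc
      change N k [L] (Fpt c) + N k [ClSub.idealMod Y] (Fpt c) < 0
      omega
    rw [(h0_quot_bound hLY _ hdc hneg.le).2 hneg] at hle
    omega

/-- The same for numerically connected divisors. -/
theorem h0_le_one (hX : topologicalKrullDim X = ((2 : ℕ) : WithBot ℕ∞)) {Z : X.IdealSheafData}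
    (hZ : BlowUp.IsEffCartierIdeal Z) (hne : Z ≠ ⊤)
    (hnc : ∀ Z₁ Z₂ : X.IdealSheafData, BlowUp.IsEffCartierIdeal Z₁ → BlowUp.IsEffCartierIdeal Z₂ → Z₁ ≠ ⊤ → Z₂ ≠ ⊤ →
      Z = Z₁ * Z₂ → 0 < pr k (ClSub.idealMod Z₁) (ClSub.idealMod Z₂))
    {L : X.Modules} (hL : PicF.IsInvertible L)
    (hdeg : ∀ c : X, topologicalKrullDim (closure ({c} : Set X)) = ((1 : ℕ) : WithBot ℕ∞) → Z ≤ ptIdeal c →
      N k [L] (Fpt c) ≤ 0) :
    hh k (CohB1.tensorMod L (ClSub.quotMod Z)) 0 ≤ 1 :=
  h0_le_one_of_grow hX hZ hne (fun Y R hY hR hYne hRne he =>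
    exists_curve_neg (k := k) hX hR (IntMultLib.isInvertible_idealMod Y hY) (by
      rw [pr_comm]; exact hnc Y R hY hR hYne hRne he)) hL hdeg

/-- A numerically connected divisor has only constant functions. -/
theorem h0_quot_eq_one (hX : topologicalKrullDim X = ((2 : ℕ) : WithBot ℕ∞)) {Z : X.IdealSheafData}
    (hZ : BlowUp.IsEffCartierIdeal Z) (hne : Z ≠ ⊤)
    (hnc : ∀ Z₁ Z₂ : X.IdealSheafData, BlowUp.IsEffCartierIdeal Z₁ → BlowUp.IsEffCartierIdeal Z₂ → Z₁ ≠ ⊤ → Z₂ ≠ ⊤ →
      Z = Z₁ * Z₂ → 0 < pr k (ClSub.idealMod Z₁) (ClSub.idealMod Z₂)) :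
    hh k (ClSub.quotMod Z) 0 = 1 := by
  haveI := CurvLib.isNoetherian k (X := X)
  have hO := CurvLib.isInvertible_structureModule (X := X)
  have h1 := h0_le_one hX hZ hne hnc hO fun c hc _ => le_of_eq (by
    haveI := isIntegral_ptIdeal c
    have h := SurfNumLib.pr_ideal (k := k) (ptIdeal c)
      (CurvLib.isCoh_quotMod (ptIdeal c) |> fun _ => CurvLib.isCoh_of_isInvertible
        (IntMultLib.isInvertible_idealMod _ (SurfNumLib.isEffCartier_curve k hX
          (WeilExtLib.isRegular_stalk_smooth (X ↘ Spec (CommRingCat.of k))) (ptIdeal c)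
          (by rw [IntFunLib.dim_ptIdeal, hc, Nat.cast_one])))) hO
    rw [pr_comm, pr_unit] at h
    change N k [Coh.structureModule X] (ClSub.quotMod (ptIdeal c)) = 0
    omega)
  rw [hh_congr (k := k) (unitLeft _) 0] at h1
  obtain ⟨H, hH⟩ := exists_ample_of_smooth k hX
  have hI := IntMultLib.isInvertible_idealMod Z hZ
  have h2 := hh_le_mid (k := k) (CurvLib.idealSeq_shortExact Z) (CurvLib.isCoh_of_isInvertible hI)
    (DevissLib.isCoh_structureModule X) (CurvLib.isCoh_quotMod Z) 0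
  change hh k (Coh.structureModule X) 0 ≤ hh k (ClSub.idealMod Z) 0 + hh k (ClSub.quotMod Z) 0 at h2
  rw [SurfNumLib.h0_structure k, SurfNumLib.h0_ideal_zero (k := k) hX hZ hne hH] at h2
  omega

end SurfAmpleLib
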