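import Groth.Agent.SurfAmpleLib.Class
import Groth.Agent.S2313
import Groth.Agent.ExtTopLib.Top

/-!
# Fundamental cycles
-/

set_option autoImplicit false
set_option linter.style.haveILetI false
set_option maxHeartbeats 1000000
universe u

open CategoryTheory CategoryTheory.Limits AlgebraicGeometry TopologicalSpace Opposite
open HilbPolyLib DevissLib IntMultLib IntFunLib HodgeIdxLib

noncomputable section

namespace SurfAmpleLib

variable {k : Type u} [Field k] {X : Scheme.{u}} [X.Over (Spec (CommRingCat.of k))]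
  [IsProper (X ↘ Spec (CommRingCat.of k))]

/-- The top cohomology is right exact on curves. -/
theorem hh_right_le {S : ShortComplex X.Modules} (hS : S.ShortExact) (h₁ : Coh.IsCoh S.X₁) (h₂ : Coh.IsCoh S.X₂)
    (hd : topologicalKrullDim (CohB1.support S.X₁) ≤ ((1 : ℕ) : WithBot ℕ∞)) :
    hh k S.X₃ 1 ≤ hh k S.X₂ 1 := by
  haveI := CurvLib.isNoetherian k (X := X)
  haveI := CurvLib.finite_HH (k := k) h₂ 1
  haveI : Subsingleton (Coh.HH X S.X₁ (1 + 1)) :=
    CurvLib.subsingleton_HH_of_support_dim S.X₁ h₁.2 (d := 1) hd 2 one_lt_two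
  have hker : LinearMap.ker (CurvLib.hDel (k := k) hS 1) = ⊤ := eq_top_iff.mpr fun y _ => Subsingleton.elim _ _
  have hr : LinearMap.range (CurvLib.hMap (k := k) S.g 1) = ⊤ := (CurvLib.exact₃ (k := k) hS 1).trans hker
  exact LinearMap.finrank_le_finrank_of_injective (f := (CurvLib.hMap (k := k) S.g 1).dualMap)
    (LinearMap.dualMap_injective_of_surjective (LinearMap.range_eq_top.mp hr)) |> fun h => by
      simpa [Subspace.dual_finrank_eq, hh] using h

variable [IsIntegral X]

/-- Sub-divisors have smaller first cohomology. -/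
theorem h1_quot_le [IsAlgClosed k] [Smooth (X ↘ Spec (CommRingCat.of k))]
    (hX : topologicalKrullDim X = ((2 : ℕ) : WithBot ℕ∞)) {Y R : X.IdealSheafData}
    (hY : BlowUp.IsEffCartierIdeal Y) (hR : BlowUp.IsEffCartierIdeal R) :
    hh k (ClSub.quotMod Y) 1 ≤ hh k (ClSub.quotMod (Y * R)) 1 := by
  haveI := CurvLib.isNoetherian k (X := X)
  obtain ⟨S, hS, ⟨e₁⟩, ⟨e₂⟩, ⟨e₃⟩⟩ := exists_quotSeq hY hR
  have hI := IntMultLib.isInvertible_idealMod Y hY
  have h := hh_right_le (k := k) hS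
    (QCohLib.isCoh_of_iso e₁.symm (HilbPolyLib.isCoh_tensor hI (CurvLib.isCoh_quotMod _)))
    (QCohLib.isCoh_of_iso e₂.symm (CurvLib.isCoh_quotMod _)) (by
      rw [DevissLib.support_iso e₁, HilbPolyLib.support_tensor hI (ClSub.quotMod R)]
      exact support_dim_quot hX hR)
  rwa [hh_congr (k := k) e₂ 1, hh_congr (k := k) e₃ 1] at h

variable [IsAlgClosed k] [Smooth (X ↘ Spec (CommRingCat.of k))]

/-- A fundamental cycle contains every curve of the connected configuration. -/
theorem subset_support_of_connected (hX : topologicalKrullDim X = ((2 : ℕ) : WithBot ℕ∞)) {r : ℕ}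
    {C : Fin r → X.IdealSheafData} (hC : Function.Injective C) (hCi : ∀ i, IsIntegral (C i).subscheme)
    (hCd : ∀ i, topologicalKrullDim ((C i).support : Set X) = 1)
    (hconn : ∀ S : Finset (Fin r), S.Nonempty → Sᶜ.Nonempty →
      ∃ i ∈ S, ∃ j ∈ Sᶜ, pr k (ClSub.idealMod (C i)) (ClSub.idealMod (C j)) ≠ 0)
    {Z : X.IdealSheafData} (hZ : BlowUp.IsEffCartierIdeal Z) (hne : Z ≠ ⊤)
    (hZs : (Z.support : Set X) ⊆ ⋃ i, ((C i).support : Set X))
    (hZC : ∀ i, 0 ≤ N k [ClSub.idealMod Z] (ClSub.quotMod (C i))) (i : Fin r) :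
    ((C i).support : Set X) ⊆ (Z.support : Set X) := by
  classical
  haveI := CurvLib.isNoetherian k (X := X)
  obtain ⟨H, hH⟩ := exists_ample_of_smooth k hX
  have hcart : ∀ i, BlowUp.IsEffCartierIdeal (C i) := fun i => by
    haveI := hCi i
    exact isEffCartier_curve' k hX (C i) (hCd i)
  obtain ⟨a, ha0, hkey, hsub, hpos⟩ := exists_class (k := k) hX hC hCi hCd hcart hZ hZs
  refine hsub i ?_
  by_contra hi
  have hnemp : (Z.support : Set X).Nonempty := by
    by_contra h0
    refine hne ((Scheme.IdealSheafData.support_eq_bot_iff (I := Z)).mp (SetLike.ext fun x => iff_of_false ?_ ?_))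
    · exact fun hx => h0 ⟨x, hx⟩
    · exact id
  obtain ⟨i₀, hi₀⟩ := hpos hnemp H hH
  obtain ⟨l, hl, j, hj, hlj⟩ := hconn (Finset.univ.filter fun l => 0 < a l) ⟨i₀, by simp [hi₀]⟩ ⟨i, Finset.mem_compl.mpr fun h => hi (Finset.mem_filter.mp h).2⟩
  simp only [Finset.mem_filter, Finset.mem_univ, true_and] at hl
  simp only [Finset.mem_compl, Finset.mem_filter, Finset.mem_univ, true_and, not_lt] at hj
  have hj0 : a j = 0 := le_antisymm hj (ha0 j)
  haveI := hCi j
  have hZi := IntMultLib.isInvertible_idealMod Z hZ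
  have hJi := IntMultLib.isInvertible_idealMod _ (hcart j)
  have h1 : pr k (ClSub.idealMod Z) (ClSub.idealMod (C j)) ≤ 0 := by
    rw [pr_comm, SurfNumLib.pr_ideal _ (CurvLib.isCoh_of_isInvertible hJi) hZi]
    linarith [hZC j]
  rw [hkey _ hJi] at h1
  have hterm : ∀ l, 0 ≤ a l * pr k (ClSub.idealMod (C l)) (ClSub.idealMod (C j)) := fun l => by
    rcases eq_or_ne l j with rfl | hlj
    · rw [hj0, zero_mul]
    · refine mul_nonneg (ha0 l) ?_
      haveI := hCi l
      exact SurfNumLib.pr_curves_nonneg (k := k) (hcart l) (hcart j) (hCd j)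
        (SurfNumLib.not_subset_of_ne (hCd l) (hCd j) (fun h => hlj (hC h)))
  have h2 := (Finset.sum_eq_zero_iff_of_nonneg fun l _ => hterm l).mp
    (le_antisymm h1 (Finset.sum_nonneg fun l _ => hterm l)) l (Finset.mem_univ l)
  exact hlj ((mul_eq_zero.mp h2).resolve_left hl.ne')

/-- A fundamental cycle has only constant functions. -/
theorem h0_fundamental (hX : topologicalKrullDim X = ((2 : ℕ) : WithBot ℕ∞)) {ι : Type*}
    {C : ι → X.IdealSheafData} (hCi : ∀ i, IsIntegral (C i).subscheme)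
    (hCd : ∀ i, topologicalKrullDim ((C i).support : Set X) = 1)
    {Z₀ : X.IdealSheafData} (hZ₀ : BlowUp.IsEffCartierIdeal Z₀) (hne : Z₀ ≠ ⊤)
    (hZ₀s : (Z₀.support : Set X) ⊆ ⋃ i, ((C i).support : Set X))
    (hZ₀C : ∀ i, 0 ≤ N k [ClSub.idealMod Z₀] (ClSub.quotMod (C i)))
    (hmin : ∀ Z : X.IdealSheafData, BlowUp.IsEffCartierIdeal Z → Z ≠ ⊤ →
      (Z.support : Set X) ⊆ ⋃ i, ((C i).support : Set X) →
      (∀ i, 0 ≤ N k [ClSub.idealMod Z] (ClSub.quotMod (C i))) → Z ≤ Z₀) :
    hh k (ClSub.quotMod Z₀) 0 = 1 := by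
  haveI := CurvLib.isNoetherian k (X := X)
  obtain ⟨H, hH⟩ := exists_ample_of_smooth k hX
  have hle := h0_le_one_of_grow (k := k) hX hZ₀ hne (fun Y R hY hR hYne hRne he => ?_)
    (CurvLib.isInvertible_structureModule (X := X))
    (fun c hc _ => le_of_eq (by rw [N, N, N, CurvLib.euler_congr (unitLeft (Fpt c)), sub_self]))
  · rw [hh_congr (k := k) (unitLeft (ClSub.quotMod Z₀)) 0] at hle
    have := one_le_h0_quot (k := k) hX hZ₀ hne
    omega
  · by_contra hno
    push Not at hno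
    have hnef : ∀ i, 0 ≤ N k [ClSub.idealMod Y] (ClSub.quotMod (C i)) := fun i => by
      haveI := hCi i
      by_cases hs : ((C i).support : Set X) ⊆ (R.support : Set X)
      · have hp := IntFunLib.eq_ptIdeal (C i)
        have hpd := IntFunLib.dim_generic_of_support (C i)
        rw [hCd i] at hpd
        rw [hp, Scheme.IdealSheafData.coe_support_vanishingIdeal] at hs
        rw [hp]
        exact hno _ (by rw [hpd, Nat.cast_one]) (hs (subset_closure rfl))
      · have h2 := SurfNumLib.N_effCartier_nonpos (k := k) hR (C i) (hCd i) hs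
        have h3 := N_mul (k := k) hY hR (l := []) (by simp) (CurvLib.isCoh_quotMod (C i))
          (by rw [SurfNumLib.support_quotMod_eq, hCd i]; simp)
        rw [← he] at h3
        have h4 := hZ₀C i
        omega
    have hYs : (Y.support : Set X) ⊆ ⋃ i, ((C i).support : Set X) := fun x hx => hZ₀s (by
      rw [he, Scheme.IdealSheafData.support_mul]; exact Or.inl hx)
    have heq : Z₀ = Y := le_antisymm (he ▸ mul_le_left' Y R) (hmin Y hY hYne hYs hnef)
    have h5 := N_mul (k := k) hY hR (l := [H]) (by simpa using hH.1) (DevissLib.isCoh_structureModule X)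
      ((topologicalKrullDim_subspace_le _ _).trans hX.le)
    rw [← he, heq] at h5
    change pr k (ClSub.idealMod Y) H = pr k (ClSub.idealMod Y) H + pr k (ClSub.idealMod R) H at h5
    have h6 := SurfNumLib.pr_effCartier_pos (k := k) hX hR hRne hH
    omega

/-- Multiples of a cycle without first cohomology on which it is nef have none either. -/
theorem h1_pow_zero (hX : topologicalKrullDim X = ((2 : ℕ) : WithBot ℕ∞)) {Z₀ : X.IdealSheafData}
    (hZ₀ : BlowUp.IsEffCartierIdeal Z₀) (hne : Z₀ ≠ ⊤) (h1 : hh k (ClSub.quotMod Z₀) 1 = 0)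
    (hdeg : ∀ c : X, topologicalKrullDim (closure ({c} : Set X)) = ((1 : ℕ) : WithBot ℕ∞) → Z₀ ≤ ptIdeal c →
      0 ≤ N k [ClSub.idealMod Z₀] (Fpt c)) (n : ℕ) :
    hh k (ClSub.quotMod (Z₀ ^ (n + 1))) 1 = 0 := by
  haveI := CurvLib.isNoetherian k (X := X)
  induction n with
  | zero => rwa [pow_one]
  | succ n ih =>
    haveI := SurfNumLib.smoothRel_of_dim (k := k) hX
    obtain ⟨W, hW⟩ := ExtTopLib.exists_isExtPow (n := 2) (CohCmpLib.rank_omega (X ↘ Spec (CommRingCat.of k)) 2)
    obtain ⟨H, hH⟩ := exists_ample_of_smooth k hX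
    have hP := isEffCartier_pow' hZ₀ (n + 1)
    have hI := IntMultLib.isInvertible_idealMod _ hP
    have hv := h1_twist_zero hX _ hI hW hH Z₀ hZ₀ hne rfl (fun Y J hY hJ hYne he => by
      rw [euler_eq_of_dim_one (CurvLib.isCoh_quotMod _) (support_dim_quot hX hY)]
      have h2 := h1_quot_le (k := k) hX hY hJ
      rw [← he, h1] at h2
      have := one_le_h0_quot (k := k) hX hY hYne
      omega) (fun c hc hle => by
      rw [N_pow (k := k) hZ₀ (n + 1) (l := []) (by simp) (CurvLib.isCoh_quotMod _)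
        (by rw [SurfNumLib.support_quotMod_eq, IntFunLib.dim_ptIdeal, hc]; simp)]
      exact mul_nonneg (Int.natCast_nonneg _) (hdeg c hc hle))
    obtain ⟨S, hS, ⟨e₁⟩, ⟨e₂⟩, ⟨e₃⟩⟩ := exists_quotSeq hP hZ₀
    have hle := hh_le_mid (k := k) hS (QCohLib.isCoh_of_iso e₁.symm (HilbPolyLib.isCoh_tensor hI (CurvLib.isCoh_quotMod _)))
      (QCohLib.isCoh_of_iso e₂.symm (CurvLib.isCoh_quotMod _)) (QCohLib.isCoh_of_iso e₃.symm (CurvLib.isCoh_quotMod _)) 1
    rw [hh_congr (k := k) e₁ 1, hh_congr (k := k) e₂ 1, hh_congr (k := k) e₃ 1, hv, ih, ← pow_succ] at hle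
    omega

end SurfAmpleLib
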