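import Groth.Agent.SurfAmpleLib.Rational

/-!
# The class of a divisor supported on given curves
-/

set_option autoImplicit false
set_option linter.style.haveILetI false
set_option maxHeartbeats 1000000
universe u

open CategoryTheory CategoryTheory.Limits AlgebraicGeometry TopologicalSpace Opposite
open HilbPolyLib DevissLib IntMultLib IntFunLib HodgeIdxLib

noncomputable section

namespace SurfAmpleLib

variable {k : Type u} [Field k] {X : Scheme.{u}} [X.Over (Spec (CommRingCat.of k))]
  [IsProper (X ↘ Spec (CommRingCat.of k))] [IsIntegral X]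

/-- A divisor supported on given curves is a nonnegative nonzero combination of them. -/
theorem exists_class (hX : topologicalKrullDim X = ((2 : ℕ) : WithBot ℕ∞)) {ι : Type*} [Fintype ι]
    {C : ι → X.IdealSheafData} (hCinj : Function.Injective C) (hCi : ∀ i, IsIntegral (C i).subscheme)
    (hCd : ∀ i, topologicalKrullDim ((C i).support : Set X) = 1)
    (hCc : ∀ i, BlowUp.IsEffCartierIdeal (C i)) {Y : X.IdealSheafData}
    (hY : BlowUp.IsEffCartierIdeal Y) (hYs : (Y.support : Set X) ⊆ ⋃ i, ((C i).support : Set X)) :
    ∃ a : ι → ℤ, (∀ i, 0 ≤ a i) ∧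
      (∀ T : X.Modules, PicF.IsInvertible T → pr k (ClSub.idealMod Y) T = ∑ i, a i * pr k (ClSub.idealMod (C i)) T) ∧
      (∀ i, 0 < a i → ((C i).support : Set X) ⊆ (Y.support : Set X)) ∧
      ((Y.support : Set X).Nonempty → ∀ A : X.Modules, CohB1.IsAmple A → ∃ i, 0 < a i) := by
  classical
  haveI := CurvLib.isNoetherian k (X := X)
  have hI := IntMultLib.isInvertible_idealMod Y hY
  have hgen : ∀ i, ∃ p : X, C i = ptIdeal p ∧ topologicalKrullDim (closure ({p} : Set X)) = ((1 : ℕ) : WithBot ℕ∞) := fun i => by
    haveI := hCi i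
    exact ⟨_, IntFunLib.eq_ptIdeal (C i), by rw [IntFunLib.dim_generic_of_support, hCd i, Nat.cast_one]⟩
  choose p hp hpd using hgen
  have hpinj : Function.Injective p := fun i j h => hCinj (by rw [hp i, hp j, h])
  let len' : X → ℤ := fun x => ((IntMultLib.len (ClSub.quotMod Y) x).toNat : ℤ)
  refine ⟨fun i => if p i ∈ Y.support then len' (p i) else 0, fun i => ?_, fun T hT => ?_, fun i hi => ?_, ?_⟩
  · dsimp only
    split_ifs
    · exact Int.natCast_nonneg _
    · exact le_rfl
  pick_goal 2
  · dsimp only at hi
    split_ifs at hi with h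
    · rw [hp i, Scheme.IdealSheafData.coe_support_vanishingIdeal]
      exact closure_minimal (Set.singleton_subset_iff.mpr h) Y.support.isClosed
    · exact absurd hi (lt_irrefl _)
  all_goals
    have hsupp : ∀ T : X.Modules, topologicalKrullDim (CohB1.support (ClSub.quotMod Y)) ≤ (([T].length : ℕ) : WithBot ℕ∞) := fun T => by
      rw [SurfNumLib.support_quotMod_eq]
      refine dim_closed_le hX Y.support.isClosed fun h => ?_
      refine SurfNumLib.effCartier_ne_bot hY (Scheme.IdealSheafData.support_eq_top_iff.mp ?_)
      exact top_le_iff.mp fun x _ => closure_minimal (Set.singleton_subset_iff.mpr h) Y.support.isClosed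
        (by rw [(genericPoint_spec X).def]; trivial)
    have key : ∀ T : X.Modules, PicF.IsInvertible T → pr k (ClSub.idealMod Y) T =
        ∑ i, (if p i ∈ Y.support then len' (p i) else 0) * pr k (ClSub.idealMod (C i)) T := fun T hT => by
      rw [SurfNumLib.pr_ideal Y (CurvLib.isCoh_of_isInvertible hI) hT]
      have hC : ∀ i, pr k (ClSub.idealMod (C i)) T = - N k [T] (Fpt (p i)) := fun i => by
        rw [hp i]
        haveI := isIntegral_ptIdeal (p i)
        exact SurfNumLib.pr_ideal _ (by
          rw [← hp i]
          exact CurvLib.isCoh_of_isInvertible (IntMultLib.isInvertible_idealMod _ (hCc i))) hT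
      simp only [hC, mul_neg, Finset.sum_neg_distrib]
      congr 1
      rcases (CohB1.support (ClSub.quotMod Y)).eq_empty_or_nonempty with he | hne
      · rw [IntFunLib.N_low (by simpa using hT) (CurvLib.isCoh_quotMod Y) (by
          rw [he]
          haveI : IsEmpty (IrreducibleCloseds ↥(∅ : Set X)) := ⟨fun c => by obtain ⟨x, -⟩ := c.isIrreducible.nonempty; exact x.2⟩
          rw [show topologicalKrullDim ↥(∅ : Set X) = ⊥ from Order.krullDim_eq_bot]
          exact WithBot.bot_lt_coe _)]
        refine (Finset.sum_eq_zero fun i _ => ?_).symm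
        rw [SurfNumLib.support_quotMod_eq] at he
        rw [if_neg (show ¬ p i ∈ Y.support from fun h => (Set.eq_empty_iff_forall_notMem.1 he) _ h), zero_mul]
      obtain ⟨S, hS, -, hsum⟩ := N_sum (k := k) (l := [T]) (by simpa using hT) (CurvLib.isCoh_quotMod Y) hne (hsupp T)
      rw [hsum]
      have hmem : ∀ x, x ∈ S ↔ ∃ i, p i = x ∧ p i ∈ Y.support := fun x => by
        rw [hS x, SurfNumLib.support_quotMod_eq]
        constructor
        · rintro ⟨hx, hxd⟩
          obtain ⟨i, hi⟩ := Set.mem_iUnion.1 (hYs hx)
          rw [hp i, Scheme.IdealSheafData.coe_support_vanishingIdeal] at hi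
          have hxd' : topologicalKrullDim (closure ({x} : Set X)) = ((1 : ℕ) : WithBot ℕ∞) := by simpa using hxd
          have he := eq_of_specializes_of_dim isClosed_closure (Y := closure ({p i} : Set X)) (hpd i).le hxd'
            (subset_closure rfl) (specializes_iff_mem_closure.mpr hi)
          exact ⟨i, he, he ▸ hx⟩
        · rintro ⟨i, rfl, hi⟩
          exact ⟨hi, by simpa using hpd i⟩
      have hS' : S = (Finset.univ.filter fun i => p i ∈ Y.support).image p := Finset.ext fun x => by
        rw [hmem, Finset.mem_image]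
        simp only [Finset.mem_filter, Finset.mem_univ, true_and]
        exact ⟨fun ⟨i, h1, h2⟩ => ⟨i, h2, h1⟩, fun ⟨i, h2, h1⟩ => ⟨i, h1, h2⟩⟩
      rw [hS', Finset.sum_image hpinj.injOn, Finset.sum_filter]
      refine Finset.sum_congr rfl fun i _ => ?_
      split_ifs
      · rw [nsmul_eq_mul]
      · rw [zero_mul]
  · exact key T hT
  · intro hne A hA
    by_contra hno
    push Not at hno
    have hne' : Y ≠ ⊤ := fun h => by
      rw [h, Scheme.IdealSheafData.support_top] at hne
      obtain ⟨x, hx⟩ := hne
      exact hx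
    have h1 := SurfNumLib.pr_effCartier_pos (k := k) hX hY hne' hA
    rw [key A hA.1] at h1
    refine h1.ne (Finset.sum_eq_zero fun i _ => ?_)
    have h2 := hno i
    split_ifs with h
    · rw [if_pos h] at h2
      rw [show len' (p i) = 0 from le_antisymm h2 (Int.natCast_nonneg _), zero_mul]
    · rw [zero_mul]

end SurfAmpleLib
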