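import Groth.Agent.SurfAmpleLib.Main

/-!
# Existence of the ample boundary divisor
-/

set_option autoImplicit false
set_option linter.style.haveILetI false
set_option maxHeartbeats 1000000
universe u

open CategoryTheory CategoryTheory.Limits AlgebraicGeometry TopologicalSpace Opposite
open HilbPolyLib DevissLib IntMultLib IntFunLib HodgeIdxLib

noncomputable section

namespace SurfAmpleLib

variable {k : Type u} [Field k] {X : Scheme.{u}} [X.Over (Spec (CommRingCat.of k))]
  [IsProper (X ↘ Spec (CommRingCat.of k))] [IsIntegral X]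

omit [X.Over (Spec (CommRingCat.of k))] [IsProper (X ↘ Spec (CommRingCat.of k))] in
theorem reg_of_bd_of_notMem {f : X.functionField} {J : X.IdealSheafData} (hB : Bd f J) {c : X}
    (hc : c ∉ J.support) : CDivCoreLib.Reg f c := by
  obtain ⟨V, hV, hcV, -⟩ := exists_isAffineOpen_mem_and_subset (U := (⊤ : X.Opens)) (x := c) trivial
  rw [Scheme.IdealSheafData.mem_support_iff_of_mem (U := ⟨V, hV⟩) hcV, Scheme.mem_zeroLocus_iff] at hc
  push Not at hc
  obtain ⟨a, ha, hca⟩ := hc
  rw [Scheme.mem_basicOpen X _ _ hcV] at hca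
  obtain ⟨v, hv⟩ := hca
  have h := CDivCoreLib.reg_mul (hB ⟨V, hV⟩ a ha c hcV)
    (show CDivCoreLib.Reg (algebraMap (X.presheaf.stalk c) X.functionField (↑v⁻¹ : X.presheaf.stalk c)) c from ⟨_, rfl⟩)
  rwa [mul_assoc, ev, ← map_mul, ← hv, Units.mul_inv, map_one, mul_one] at h

omit [X.Over (Spec (CommRingCat.of k))] [IsProper (X ↘ Spec (CommRingCat.of k))] in
theorem bd_of_values [IsLocallyNoetherian X] {f : X.functionField} {c : X} {J : X.IdealSheafData}
    (hc : BlowUp.IsEffCartierIdeal (ptIdeal c)) {θ : ClSub.idealMod (ptIdeal c * J) ⟶ Coh.structureModule X}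
    (hθ : ∀ (V : X.Opens) (t : Γ(ClSub.idealMod (ptIdeal c * J), V)) (x : X) (hx : x ∈ V),
      ev hx (show Γ(X, V) from θ.app V t) = f * ev hx (SurfNumLib.val (ptIdeal c * J) t))
    (hmem : c ∈ CohB1.support (cokernel θ)) : Bd f J := by
  intro W a ha x hx
  obtain ⟨V₀, hxV₀, π, hπ, hV₀⟩ := hc x
  obtain ⟨g, g', hgg, hxg⟩ := exists_basicOpen_le_affine_inter V₀.2 W.2 x ⟨hxV₀, hx⟩
  let V : X.affineOpens := X.affineBasicOpen g
  have h₁ : V.1 ≤ V₀.1 := X.basicOpen_le g
  have h₂ : V.1 ≤ W.1 := hgg.le.trans (X.basicOpen_le g')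
  have hxV : x ∈ V.1 := hxg
  let π' := X.presheaf.map (homOfLE h₁).op π
  let a' := X.presheaf.map (homOfLE h₂).op a
  have hπV : (ptIdeal c).ideal V = Ideal.span {π'} := by
    rw [← (ptIdeal c).map_ideal (U := V) (V := V₀) h₁, hV₀, Ideal.map_span, Set.image_singleton]
    rfl
  have ha' : a' ∈ J.ideal V := by
    rw [← J.map_ideal (U := V) (V := W) h₂]
    exact Ideal.mem_map_of_mem _ ha
  obtain ⟨s, hs⟩ := IntMultLib.exists_section (ptIdeal c * J) V (a := π' * a') (by
    rw [Scheme.IdealSheafData.ideal_mul, Pi.mul_apply]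
    exact Ideal.mul_mem_mul (hπV ▸ Ideal.mem_span_singleton_self π') ha')
  obtain ⟨r, hr⟩ := Ideal.mem_span_singleton'.1 (hπV ▸ mem_ptIdeal V (notMem_basicOpen hmem s))
  have h := hθ V.1 s x hxV
  rw [← hr, show SurfNumLib.val (ptIdeal c * J) s = π' * a' from hs] at h
  simp only [ev, map_mul] at h
  have hπ0 : ev hxV π' ≠ 0 := by
    intro h0
    have h0' : π' = 0 := ev_injective hxV (h0.trans (by rw [ev, map_zero, map_zero]))
    have h0'' : π = 0 := by
      apply ev_injective hxV₀
      rw [← ev_res h₁ hxV π]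
      change ev hxV π' = ev hxV₀ 0
      rw [h0, ev, map_zero, map_zero]
    haveI : Nonempty V₀.1 := ⟨⟨x, hxV₀⟩⟩
    exact zero_notMem_nonZeroDivisors (h0'' ▸ hπ)
  have h3 : f * ev hxV a' = ev hxV r := by
    refine mul_left_cancel₀ hπ0 ?_
    simp only [ev]
    linear_combination (-1 : X.functionField) * h
  rw [← ev_res h₂ hxV a, h3]
  exact reg_ev hxV r

variable (hX : topologicalKrullDim X = ((2 : ℕ) : WithBot ℕ∞))

include hX

variable (k) in
include k in
/-- The boundary of a nonempty affine open of a regular proper surface is the support of an ample divisor. -/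
theorem exists_ample (hreg : ∀ x : X, IsRegularLocalRing (X.presheaf.stalk x)) {U : X.Opens} (hU : IsAffineOpen U)
    {u : X} (hu : u ∈ U) :
    ∃ I : X.IdealSheafData, BlowUp.IsEffCartierIdeal I ∧ (I.support : Set X) = (U : Set X)ᶜ ∧
      ∀ L : X.Modules, PicF.IsInvertible L → ClSub.IsInverseOf L (ClSub.idealMod I) → CohB1.IsAmple L := by
  classical
  haveI := CurvLib.isNoetherian k (X := X)
  haveI : X.IsSeparated := ⟨by
    rw [show Limits.terminal.from X = (X ↘ Spec (CommRingCat.of k)) ≫ Limits.terminal.from _ from Subsingleton.elim _ _]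
    infer_instance⟩
  let S : Set X := {c | c ∉ U ∧ topologicalKrullDim (closure ({c} : Set X)) = ((1 : ℕ) : WithBot ℕ∞)}
  haveI : Fintype S := (finite_curvePts k hX hu).fintype
  let pt : S → X := fun i => i.1
  have hpt : ∀ i, topologicalKrullDim (closure ({pt i} : Set X)) = ((1 : ℕ) : WithBot ℕ∞) := fun i => i.2.2
  have hinj : Function.Injective pt := Subtype.val_injective
  have hcart : ∀ i, BlowUp.IsEffCartierIdeal (ptIdeal (pt i)) := fun i => by
    haveI := isIntegral_ptIdeal (pt i)
    exact SurfNumLib.isEffCartier_curve k hX hreg (ptIdeal (pt i)) (by rw [IntFunLib.dim_ptIdeal, hpt i, Nat.cast_one])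
  let I : S → X.IdealSheafData := fun i => ptIdeal (pt i)
  have hIC : ∀ n, BlowUp.IsEffCartierIdeal (comb I n) := isEffCartier_comb hcart
  have hinv : ∀ n, PicF.IsInvertible (ClSub.idealMod (comb I n)) := fun n => IntMultLib.isInvertible_idealMod _ (hIC n)
  -- the supports
  have hsupp : ∀ n : S → ℕ, (∀ i, n i ≠ 0) → ((comb I n).support : Set X) = (U : Set X)ᶜ := by
    intro n hn
    ext x
    rw [SetLike.mem_coe, mem_support_comb]
    constructor
    · rintro ⟨i, -, hi⟩ hxU
      rw [← SetLike.mem_coe, Scheme.IdealSheafData.coe_support_vanishingIdeal] at hi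
      exact i.2.1 ((specializes_iff_mem_closure.mpr hi).mem_open U.2 hxU)
    · intro hx
      obtain ⟨c, hcU, hcd, hxc⟩ := exists_curve_of_notMem k hX hU hu hx
      refine ⟨⟨c, hcU, hcd⟩, hn _, ?_⟩
      rw [← SetLike.mem_coe, Scheme.IdealSheafData.coe_support_vanishingIdeal]
      exact hxc
  have hnotU : ∀ {x : X}, x ∉ U → ∀ n : S → ℕ, (∀ i, n i ≠ 0) → x ∈ CohB1.support (ClSub.quotMod (comb I n)) := by
    intro x hx n hn
    rw [SurfNumLib.support_quotMod_eq, hsupp n hn]
    exact hx
  -- a curve meeting `U` and a function vanishing on it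
  obtain ⟨e, he, heU⟩ : ∃ e : X, IsClosed ({e} : Set X) ∧ e ∉ U := by
    obtain ⟨c, hc⟩ := SurfNumLib.exists_curve k hX
    obtain ⟨x, -, hxU⟩ := exists_mem_notMem k hU hc
    obtain ⟨e, hxe, he⟩ := IsClosed.exists_closed_singleton U.2.isClosed_compl ⟨x, hxU⟩
    exact ⟨e, he, hxe⟩
  obtain ⟨y, hyU', -, hyd⟩ := AVAmpleLib.exists_curve_not_mem (X ↘ Spec (CommRingCat.of k)) e he
    U.2.isClosed_compl heU (fun h => by
      exact (Set.eq_univ_iff_forall.1 h u) hu)
  have hyU : y ∈ U := not_not.mp hyU'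
  have hyd' : topologicalKrullDim (closure ({y} : Set X)) = ((1 : ℕ) : WithBot ℕ∞) := by rw [hyd, Nat.cast_one]
  obtain ⟨h, hle, hηh⟩ := hU.exists_basicOpen_le (V := ⟨(closure ({y} : Set X))ᶜ, isClosed_closure.isOpen_compl⟩)
    ⟨genericPoint X, fun hη => by
      have hh : topologicalKrullDim (closure ({genericPoint X} : Set X)) ≤ topologicalKrullDim (closure ({y} : Set X)) :=
        IntFunLib.dim_mono (isClosed_closure.closure_subset_iff.mpr (Set.singleton_subset_iff.mpr hη))
      rw [SurfNumLib.dim_generic hX, hyd'] at hh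
      have : (2 : ℕ) ≤ 1 := by exact_mod_cast hh
      omega⟩ (CDivCoreLib.mem_of_open hu)
  have hyh : y ∉ X.basicOpen h := fun hm => (hle hm) (subset_closure rfl)
  choose g hg using fun i : S => exists_not_reg hU hu i.2.1
  let F : Option S → Γ(X, U) := fun o => o.elim h g
  let P : (S → ℕ) → Prop := fun n => ∀ o, Bd (ev hu (F o)) (comb I n)
  -- some combination bounds all poles
  have hne : ∃ r, ∃ n, P n ∧ ∑ i, n i = r := by
    choose N hN using fun o => exists_bd hu (F o) (hIC fun _ => 1) (by rw [hsupp _ fun _ => one_ne_zero, compl_compl])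
    refine ⟨_, fun _ => Finset.univ.sup N, fun o => ?_, rfl⟩
    have h1 := hN o (Finset.univ.sup N) (Finset.le_sup (Finset.mem_univ o))
    have heq : comb I (fun _ : S => 1) ^ Finset.univ.sup N = comb I fun _ => Finset.univ.sup N := by
      rw [comb, comb, ← Finset.prod_pow]
      exact Finset.prod_congr rfl fun i _ => by rw [pow_one]
    rwa [heq] at h1
  obtain ⟨n, hP, hmin⟩ : ∃ n, P n ∧ ∀ m, P m → ∑ i, n i ≤ ∑ i, m i := by
    obtain ⟨n, hn, hr⟩ := Nat.find_spec hne
    exact ⟨n, hn, fun m hm => hr ▸ Nat.find_min' hne ⟨m, hm, rfl⟩⟩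
  have hn : ∀ i, n i ≠ 0 := fun i hi => by
    refine hg i (reg_of_bd_of_notMem (hP (some i)) fun hmem => ?_)
    obtain ⟨j, hj, hji⟩ := (mem_support_comb n i.1).1 hmem
    rw [← SetLike.mem_coe, Scheme.IdealSheafData.coe_support_vanishingIdeal] at hji
    refine hj ?_
    have : j = i := Subtype.ext (eq_of_specializes_of_dim isClosed_closure (Y := closure ({pt j} : Set X)) (hpt j).le
      (hpt i) (subset_closure rfl) (specializes_iff_mem_closure.mpr hji))
    rw [this, hi]
  choose θ hθ using fun o => exists_hom (hP o)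
  have hnot : ∀ i : S, ∃ o, i.1 ∉ CohB1.support (cokernel (θ o)) := by
    intro i
    by_contra hno
    push Not at hno
    let n' := Function.update n i (n i - 1)
    have hn' : comb I n = ptIdeal i.1 * comb I n' := by
      have h1 := comb_succ (I := I) n' i
      simp only [n', Function.update_self, Function.update_idem,
        Nat.sub_add_cancel (Nat.pos_of_ne_zero (hn i)), Function.update_eq_self] at h1
      exact h1
    have hP' : P n' := fun o => by
      have gen : ∀ (J : X.IdealSheafData), J = ptIdeal i.1 * comb I n' →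
          ∀ (ψ : ClSub.idealMod J ⟶ Coh.structureModule X),
          (∀ (V : X.Opens) (t : Γ(ClSub.idealMod J, V)) (x : X) (hx : x ∈ V),
            ev hx (show Γ(X, V) from ψ.app V t) = ev hu (F o) * ev hx (SurfNumLib.val J t)) →
          i.1 ∈ CohB1.support (cokernel ψ) → Bd (ev hu (F o)) (comb I n') := by
        rintro J rfl ψ h1 h2
        exact bd_of_values (hcart i) h1 h2
      exact gen _ hn' _ (hθ o) (hno o)
    have hlt : ∑ l, n' l < ∑ l, n l := Finset.sum_lt_sum (fun l _ => by
      by_cases hl : l = i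
      · subst hl; simp [n']
      · simp [n', hl]) ⟨i, Finset.mem_univ i, by
        have := hn i
        simp only [n', Function.update_self]
        omega⟩
    exact absurd (hmin n' hP') (not_le.mpr hlt)
  -- degrees on curves
  have hcurveU : ∀ (m : S → ℕ), (∀ i, m i ≠ 0) → ∀ c : X,
      topologicalKrullDim (closure ({c} : Set X)) = ((1 : ℕ) : WithBot ℕ∞) → c ∈ U →
        N k [ClSub.idealMod (comb I m)] (Fpt c) < 0 := by
    intro m hm c hc hcU
    have hsup : CohB1.support (cokernel (ClSub.idealModι (comb I m))) = CohB1.support (ClSub.quotMod (comb I m)) :=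
      DevissLib.support_iso ((colimit.isColimit _).coconePointUniqueUpToIso
        (CurvLib.idealSeq_shortExact (comb I m)).gIsCokernel)
    obtain ⟨x, hxc, hxU⟩ := exists_mem_notMem k hU hc
    refine neg_of_hom_curve (hinv m) (θ := ClSub.idealModι (comb I m)) hc ?_ hxc (hsup ▸ hnotU hxU m hm)
    rw [hsup, SurfNumLib.support_quotMod_eq, hsupp m hm]
    exact fun hcc => hcc hcU
  have hnef : ∀ j, 0 ≤ dot k pt n j := fun j => by
    obtain ⟨o, ho⟩ := hnot j
    have h1 := nonpos_of_hom_curve (k := k) (hinv n) (θ := θ o) (hpt j) ho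
    have h2 := N_comb_curve (k := k) hX hpt hcart n j
    change N k [ClSub.idealMod (comb I n)] (Fpt (pt j)) = _ at h2
    rw [h2] at h1
    omega
  -- positive square
  have hy : y ∈ CohB1.support (cokernel (θ none)) :=
    mem_support_of_nonunit hyU h hyh (fun V t x hx => by
      rw [hθ none V t x hx]
      exact congrArg (· * _) ((ev_eq_germ hu h).trans (ev_eq_germ hyU h).symm))
  have hθ0 : θ none ≠ 0 := fun h0 => by
    have hh : (0 : X.functionField) ≠ ev hu h := fun h0 => by
      rw [Scheme.mem_basicOpen X _ _ (CDivCoreLib.mem_of_open hu), ← ev_eq_germ hu h, ← h0] at hηh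
      exact not_isUnit_zero hηh
    obtain ⟨V, hxV, a, ha, hV⟩ := hIC n u
    obtain ⟨s, hs⟩ := IntMultLib.exists_section (comb I n) V (a := a) (hV ▸ Ideal.mem_span_singleton_self a)
    have h1 := hθ none V.1 s u hxV
    rw [h0, show SurfNumLib.val (comb I n) s = a from hs] at h1
    have h2 : ev hxV (0 : Γ(X, V.1)) = ev hu h * ev hxV a := h1
    have h2' : (0 : X.functionField) = ev hu h * ev hxV a := by
      rw [← h2, ev, map_zero, map_zero]
    rcases mul_eq_zero.1 h2'.symm with h3 | h3
    · exact hh h3.symm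
    · haveI : Nonempty V.1 := ⟨⟨u, hxV⟩⟩
      exact zero_notMem_nonZeroDivisors ((ev_injective hxV (h3.trans (by rw [ev, map_zero, map_zero]))) ▸ ha)
  have hsq : 0 < pr k (ClSub.idealMod (comb I n)) (ClSub.idealMod (comb I n)) := by
    obtain ⟨hcoh, hdim⟩ := coker_coh_dim (k := k) (n := 1) (hinv n) hX hθ0
    obtain ⟨T, hT, hfin, hsum⟩ := N_sum (k := k) (l := [ClSub.idealMod (comb I n)]) (by simpa using hinv n) hcoh ⟨y, hy⟩
      (by simpa using hdim)
    rw [pr_self_eq (hinv n) hX hθ0, hsum]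
    refine neg_pos.mpr (Finset.sum_neg' (fun c hc => ?_) ⟨y, (hT y).mpr ⟨hy, by simpa using hyd⟩, ?_⟩)
    · refine smul_nonpos_of_nonneg_of_nonpos (Nat.zero_le _) ?_
      have hcd : topologicalKrullDim (closure ({c} : Set X)) = ((1 : ℕ) : WithBot ℕ∞) := by simpa using ((hT c).mp hc).2
      by_cases hcU : c ∈ U
      · exact (hcurveU n hn c hcd hcU).le
      · have := hnef ⟨c, hcU, hcd⟩
        have h2 := N_comb_curve (k := k) hX hpt hcart n ⟨c, hcU, hcd⟩
        change N k [ClSub.idealMod (comb I n)] (Fpt c) = _ at h2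
        omega
    · have hlen : (IntMultLib.len (cokernel (θ none)) y).toNat ≠ 0 := fun h0 => by
        rcases ENat.toNat_eq_zero.mp h0 with h0 | h0
        · exact hy (Module.length_eq_zero_iff.mp h0)
        · exact hfin y ((hT y).mpr ⟨hy, by simpa using hyd⟩) h0
      have := hcurveU n hn y hyd' hyU
      rw [nsmul_eq_mul]
      exact mul_neg_of_pos_of_neg (by exact_mod_cast Nat.pos_of_ne_zero hlen) this
  have hex : ∃ j, 0 < dot k pt n j := by
    by_contra hno
    push Not at hno
    rw [pr_comb_comb hX hcart] at hsq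
    exact (Finset.sum_nonpos fun j _ => mul_nonpos_of_nonneg_of_nonpos (by positivity) (hno j)).not_gt hsq
  obtain ⟨m, hm, hmpos⟩ := exists_positive hX hpt hcart hinj _ n hn hnef hex rfl
  refine ⟨comb I m, hIC m, hsupp m hm, fun L hL hLI => ?_⟩
  obtain ⟨e⟩ := hLI
  have e' : CohB1.tensorMod (ClSub.idealMod (comb I m)) L ≅ Coh.structureModule X := swapIso _ _ ≪≫ e
  have hNinv : ∀ c : X, topologicalKrullDim (closure ({c} : Set X)) = ((1 : ℕ) : WithBot ℕ∞) →
      N k [L] (Fpt c) = - N k [ClSub.idealMod (comb I m)] (Fpt c) := fun c hc =>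
    N_inv_head (l := []) (hinv m) hL e' (by simp) (coh_Fpt k c) (by rw [supp_Fpt k, hc]; simp)
  refine isAmple_surface (k := k) hX hL ?_ fun c hc => ?_
  · rw [SurfNumLib.pr_inv_inv hX.le (hinv m) (hinv m) e' e', pr_comb_comb hX hcart]
    obtain ⟨j, -⟩ := hex
    exact Finset.sum_pos (fun i _ => mul_pos (by exact_mod_cast Nat.pos_of_ne_zero (hm i)) (hmpos i))
      ⟨j, Finset.mem_univ j⟩
  · rw [hNinv c hc]
    by_cases hcU : c ∈ U
    · exact neg_pos.mpr (hcurveU m hm c hc hcU)
    · have h2 := N_comb_curve (k := k) hX hpt hcart m ⟨c, hcU, hc⟩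
      change N k [ClSub.idealMod (comb I m)] (Fpt c) = _ at h2
      have := hmpos ⟨c, hcU, hc⟩
      omega

end SurfAmpleLib
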